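import Cfsg.Agent.H445.AH.OTwo
import Cfsg.Agent.H27.AH.Defs
import Cfsg.Agent.TitsThree.KSideO
import Cfsg.Agent.LieClassical.OrthForms

/-!
# S2451 (C), orthogonal groups (helper445): the rows

* `notC_of_good` : `NotC p (POmega F Q)` for a `Good` form of even dimension `≥ 8`, or odd dimension `≥ 7` (and `2 ≠ 0`);
* `notC_podd`, `notC_pminus`, `notC_pplus` : the three families.
-/

set_option autoImplicit false
set_option linter.unusedSectionVars false

namespace Cfsg.Agent.H445.AH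

open QuadraticMap Cfsg.Agent.LieClassical.OrthCore Cfsg.Agent.LieClassical.OrthTrans
  Cfsg.Agent.LieClassical.OrthFinite Cfsg.Agent.LieClassical.OrthForms Cfsg.Agent.H883.Sub Module
open Cfsg.Agent.TitsThree.KSideO (toPOmega toPOmega_surjective center_of_toPOmega scalar_of_center toOmega)
open Cfsg.Agent.H27.AH Cfsg.Agent.H330.ClassProd

section Uni

variable {F V : Type*} [Field F] [AddCommGroup V] [Module F V] {Q : QuadraticForm F V}

theorem pm_pow (F : Type*) [Field F] (p : ℕ) [Fact p.Prime] [CharP F p] (k : ℕ) {c : F} (hc : c = 1 ∨ c = -1) :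
    c ^ p ^ k = c := by
  rcases hc with rfl | rfl
  · exact one_pow _
  · have h := sub_pow_char_pow (p := p) (n := k) (0 : F) 1
    rw [zero_sub, one_pow, zero_pow (pow_ne_zero _ (Fact.out : p.Prime).ne_zero), zero_sub] at h
    exact h

theorem toEnd_pow (z : V ≃ₗ[F] V) (n : ℕ) : toEnd (z ^ n) = toEnd z ^ n := by
  induction n with
  | zero => rfl
  | succ n ih => rw [pow_succ, pow_succ, toEnd_mul, ih]

/-- if a power `p ^ k` of `z` is `± 1`, then `z` is unipotent up to sign -/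
theorem uni_of_pow [Nontrivial V] (p : ℕ) [Fact p.Prime] [CharP F p] {z : V ≃ₗ[F] V} {k : ℕ} {c : F}
    (hc : c = 1 ∨ c = -1) (h : ∀ v, (z ^ p ^ k) v = c • v) : Uni z c := by
  have : CharP (Module.End F V) p :=
    charP_of_injective_algebraMap (FaithfulSMul.algebraMap_injective F (Module.End F V)) p
  refine ⟨p ^ k, ?_⟩
  have hcomm : Commute (toEnd z) (c • (1 : Module.End F V)) := (Commute.one_right _).smul_right c
  rw [sub_pow_char_pow_of_commute p k hcomm, ← toEnd_pow, smul_pow, one_pow, pm_pow F p k hc]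
  ext v
  show (z ^ p ^ k) v - c • v = 0
  rw [h, sub_self]

end Uni

section Transfer

variable {ι : Type} [Fintype ι] [DecidableEq ι] {F : Type*} [Field F] {Q : QuadraticForm F (ι → F)}

theorem toPOmega_scalar (hG : Good Q) (k : E Q) {c : F} (h : ∀ v, (k : (ι → F) ≃ₗ[F] (ι → F)) v = c • v) :
    toPOmega hG k = 1 := by
  show QuotientGroup.mk' (Subgroup.center (Cfsg.Omega F ⇑Q)) (toOmega hG k) = 1
  rw [QuotientGroup.mk'_apply, QuotientGroup.eq_one_iff, Subgroup.mem_center_iff]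
  intro g
  obtain ⟨g, rfl⟩ := (toOmega hG).surjective g
  rw [← map_mul, ← map_mul]
  congr 1
  apply Subtype.ext
  ext1 v
  show (g : (ι → F) ≃ₗ[F] (ι → F)) ((k : (ι → F) ≃ₗ[F] (ι → F)) v) =
    (k : (ι → F) ≃ₗ[F] (ι → F)) ((g : (ι → F) ≃ₗ[F] (ι → F)) v)
  rw [h, h, map_smul]

/-- The transfer. -/
theorem allU_of_allConj (hG : Good Q) (p : ℕ) [Fact p.Prime] [CharP F p] {α β : E Q}
    {c : Cfsg.POmega F ⇑Q} {k : ℕ} (h : AllConj (toPOmega hG α) (toPOmega hG β) c) (hc : orderOf c = p ^ k) :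
    AllU Q α.1 β.1 := by
  intro g hg
  obtain ⟨t, ht⟩ := isConj_iff.1 (h 1 (toPOmega hG ⟨g, hg⟩))
  have h1 : toPOmega hG ((α * (⟨g, hg⟩ * β * ⟨g, hg⟩⁻¹)) ^ p ^ k) = 1 := by
    rw [map_pow, map_mul, map_mul, map_mul, map_inv]
    have e1 : toPOmega hG α * (toPOmega hG ⟨g, hg⟩ * toPOmega hG β * (toPOmega hG ⟨g, hg⟩)⁻¹) = t * c * t⁻¹ := by
      rw [ht, one_mul, inv_one, mul_one]
    rw [e1, conj_pow, ← hc, pow_orderOf_eq_one, mul_one, mul_inv_cancel]
  obtain ⟨c', hc'⟩ := scalar_of_center hG (center_of_toPOmega hG h1)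
  have hpm : c' = 1 ∨ c' = -1 := by
    obtain ⟨x, y, hxy⟩ := hG.exists_hyp
    have h1 : Q (x + y) = 1 := by rw [Q_add, hxy.left, hxy.right, hxy.pair]; ring
    have h2 := mem_O.1 (E_le_O ((α * (⟨g, hg⟩ * β * ⟨g, hg⟩⁻¹)) ^ p ^ k : E Q).2) (x + y)
    rw [hc', QuadraticMap.map_smul, h1, smul_eq_mul, mul_one] at h2
    exact mul_self_eq_one_iff.1 h2
  obtain ⟨x, y, hxy⟩ := hG.exists_hyp
  have : Nontrivial (ι → F) := ⟨x, 0, by
    rintro rfl
    have h3 := hxy.pair
    rw [polar_zero_left] at h3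
    exact zero_ne_one h3⟩
  refine ⟨c', hpm, uni_of_pow p hpm (k := k) ?_⟩
  intro v
  exact hc' v

/-- `NotC` for `POmega F Q` -/
theorem notC_of_good [Finite F] (hG : Good Q) (p : ℕ) [Fact p.Prime] [CharP F p]
    (hd : (8 ≤ finrank F (ι → F) ∧ Even (finrank F (ι → F))) ∨
      ((2 : F) ≠ 0 ∧ 7 ≤ finrank F (ι → F) ∧ Odd (finrank F (ι → F)))) : NotC p (Cfsg.POmega F ⇑Q) := by
  intro a b c ha hb _ hab ⟨k, hk⟩
  obtain ⟨α, rfl⟩ := toPOmega_surjective hG a
  obtain ⟨β, rfl⟩ := toPOmega_surjective hG b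
  have hU := allU_of_allConj hG p hab hk
  have hnsa : ∀ c : F, ∃ v, α.1 v ≠ c • v := by
    intro c
    by_contra hcon
    push Not at hcon
    exact ha (toPOmega_scalar hG α hcon)
  have hnsb : ∀ c : F, ∃ v, β.1 v ≠ c • v := by
    intro c
    by_contra hcon
    push Not at hcon
    exact hb (toPOmega_scalar hG β hcon)
  rcases hd with ⟨h8, hev⟩ | ⟨h2, h7, hodd⟩
  · by_cases h2 : (2 : F) = 0
    · exact even_two h2 hG h8 hev α.2 β.2 hnsa hnsb hU
    · exact even_odd h2 hG h8 hev α.2 β.2 hnsa hnsb hU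
  · exact omega_odd h2 hG h7 hodd α.2 β.2 hnsa hnsb hU

end Transfer

section Rows

theorem two_ne_zero_of_odd (F : Type*) [Field F] [Fintype F] (h : Odd (Fintype.card F)) : (2 : F) ≠ 0 := by
  intro h2
  have h3 : ringChar F = 2 := by
    have h4 : ringChar F ∣ 2 := (ringChar.spec F 2).1 (by exact_mod_cast h2)
    exact ((Nat.prime_dvd_prime_iff_eq (CharP.char_is_prime F (ringChar F)) Nat.prime_two).1 h4)
  have h5 := FiniteField.even_card_of_char_two h3
  obtain ⟨k, hk⟩ := h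
  omega

/-- `Ω_{2m+1}(q)`, `q` odd, `m ≥ 3` -/
theorem notC_podd (F : Type*) [Field F] [Fintype F] (p : ℕ) [CharP F p] (m : ℕ) (hm : 3 ≤ m)
    (ho : Odd (Fintype.card F)) : NotC p (Cfsg.POmega F (Cfsg.quadFormOdd m F)) := by
  have : Fact p.Prime := ⟨CharP.char_is_prime F p⟩
  have h2 := two_ne_zero_of_odd F ho
  have hdim : finrank F (Unit ⊕ (Fin m ⊕ Fin m) → F) = 2 * m + 1 := by
    rw [Module.finrank_fintype_fun_eq_card, Fintype.card_sum, Fintype.card_sum, Fintype.card_fin,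
      Fintype.card_unit]
    omega
  rw [← coe_oddForm]
  have hG : Good (oddForm m F) := good_of_finite (nondeg_oddForm m F h2) (by rw [hdim]; omega)
  exact notC_of_good hG p (Or.inr ⟨h2, by rw [hdim]; omega, by rw [hdim]; exact ⟨m, rfl⟩⟩)

/-- `Ω⁺_{2m}(q)`, `m ≥ 4` -/
theorem notC_pplus (F : Type*) [Field F] [Fintype F] (p : ℕ) [CharP F p] (m : ℕ) (hm : 4 ≤ m) :
    NotC p (Cfsg.POmega F (Cfsg.quadFormPlus m F)) := by
  have : Fact p.Prime := ⟨CharP.char_is_prime F p⟩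
  have hdim : finrank F (Fin m ⊕ Fin m → F) = 2 * m := by
    rw [Module.finrank_fintype_fun_eq_card, Fintype.card_sum, Fintype.card_fin]
    omega
  rw [← coe_plusForm]
  have hG : Good (plusForm m F) := good_of_finite (nondeg_plusForm m F) (by rw [hdim]; omega)
  exact notC_of_good hG p (Or.inl ⟨by rw [hdim]; omega, by rw [hdim]; exact even_two_mul m⟩)

/-- `Ω⁻_{2m}(q)`, `m ≥ 4` -/
theorem notC_pminus (F : Type*) [Field F] [Fintype F] (p : ℕ) [CharP F p] (m : ℕ) (a b : F) (hm : 4 ≤ m)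
    (hab : ∀ z₁ z₂ : F, z₁ ^ 2 + a * z₁ * z₂ + b * z₂ ^ 2 = 0 → z₁ = 0 ∧ z₂ = 0) :
    NotC p (Cfsg.POmega F (Cfsg.quadFormMinus (m - 1) F a b)) := by
  have : Fact p.Prime := ⟨CharP.char_is_prime F p⟩
  have hdim : finrank F ((Fin (m - 1) ⊕ Fin (m - 1)) ⊕ Fin 2 → F) = 2 * m := by
    rw [Module.finrank_fintype_fun_eq_card, Fintype.card_sum, Fintype.card_sum, Fintype.card_fin, Fintype.card_fin]
    omega
  rw [← coe_minusForm]
  have hG : Good (minusForm (m - 1) F a b) := good_of_finite (nondeg_minusForm (m - 1) F a b hab) (by rw [hdim]; omega)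
  exact notC_of_good hG p (Or.inl ⟨by rw [hdim]; omega, by rw [hdim]; exact even_two_mul m⟩)

end Rows

end Cfsg.Agent.H445.AH
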