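import Cfsg.Agent.H445.AH.OTrace

/-!
# S2451 (C), orthogonal groups in odd characteristic: consequences of the weak identity (helper445)

* `NoN Q a` : `B(u, a u) = 0` for all singular `u`; `NoP Q a` : singular `u` with `B(u, a u) = 0` are eigenvectors;
* `kappa_of_NoN` : `NoN Q a` implies `a + a⁻¹` scalar;
* `sq_of_symm` : `B(v, b u) = B(u, b v)` for all totally singular pairs implies `b² = 1`;
* `symm_of_NoN`, `sigma_zero`, `NoP_of_P`, `disc_zero`, `symm_of_NoP` : consequences of the weak identity.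
-/

set_option autoImplicit false
set_option linter.unusedSectionVars false

namespace Cfsg.Agent.H445.AH

open QuadraticMap Cfsg.Agent.LieClassical.OrthCore Cfsg.Agent.LieClassical.OrthTrans
  Cfsg.Agent.LieClassical.OrthFinite Cfsg.Agent.H883.Sub Module

variable {F V : Type*} [Field F] [AddCommGroup V] [Module F V] {Q : QuadraticForm F V}

/-- the weak identity -/
def Weak (Q : QuadraticForm F V) (a b : V →ₗ[F] V) : Prop :=
  ∀ u v w x y z : V, TS3 Q u v w → TS3 Q x y z →
    D12 Q a u v w b x y z ^ 2 = 4 * Dm Q a u v b x y * Dm Q a u w b x z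

theorem Weak.symm {a b : V →ₗ[F] V} (h : Weak Q a b) : Weak Q b a := by
  intro u v w x y z h1 h2
  have h3 := h x y z u v w h2 h1
  have e1 : D12 Q b u v w a x y z = D12 Q a x y z b u v w := by
    unfold D12
    ring
  have e2 : Dm Q b u v a x y = Dm Q a x y b u v := by
    unfold Dm
    ring
  have e3 : Dm Q b u w a x z = Dm Q a x z b u w := by
    unfold Dm
    ring
  rw [e1, e2, e3]
  exact h3

/-- no singular vector is moved to a nonperpendicular one -/
def NoN (Q : QuadraticForm F V) (a : V →ₗ[F] V) : Prop := ∀ u, Q u = 0 → polar Q u (a u) = 0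

/-- no singular point is moved to a perpendicular one -/
def NoP (Q : QuadraticForm F V) (a : V →ₗ[F] V) : Prop :=
  ∀ u, Q u = 0 → polar Q u (a u) = 0 → ∃ c : F, a u = c • u

theorem NoN.skew {a : V →ₗ[F] V} (h : NoN Q a) {u v : V} (huv : TS2 Q u v) :
    polar Q u (a v) + polar Q v (a u) = 0 := by
  have h0 : Q (u + v) = 0 := by rw [Q_add, huv.hu, huv.hv, huv.huv]; simp
  have h1 := h _ h0
  rw [map_add, polar_add_left, polar_add_right, polar_add_right, h _ huv.hu, h _ huv.hv] at h1
  linear_combination h1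

theorem polar_inv {a : V ≃ₗ[F] V} (ha : a ∈ O Q) (x y : V) : polar Q x (a⁻¹ y) = polar Q (a x) y := by
  rw [← polar_map ha x (a⁻¹ y)]
  congr 1
  exact LinearEquiv.apply_symm_apply a y

theorem kappa_of_NoN [Finite F] [FiniteDimensional F V] (hG : Good Q) {a : V ≃ₗ[F] V} (ha : a ∈ O Q)
    (h : NoN Q (a : V →ₗ[F] V)) : ∃ κ : F, ∀ v, a v + a⁻¹ v = κ • v := by
  obtain ⟨c, hc⟩ := scalar_of_TS2 hG (n := (a : V →ₗ[F] V) + ((a⁻¹ : V ≃ₗ[F] V) : V →ₗ[F] V)) (by
    intro u v huv
    show polar Q v (a u + a⁻¹ u) = 0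
    rw [polar_add_right, polar_inv ha, polar_comm Q (a v) u]
    have := h.skew huv
    have h1 : polar Q u (a v) + polar Q v (a u) = 0 := this
    rw [add_comm]
    exact h1)
  exact ⟨c, hc⟩

/-- skew part zero -/
theorem sq_of_symm [Finite F] [FiniteDimensional F V] (h2 : (2 : F) ≠ 0) (hG : Good Q) {b : V ≃ₗ[F] V} (hb : b ∈ O Q)
    (h : ∀ u v, TS2 Q u v → polar Q v (b u) = polar Q u (b v)) : ∀ v, b (b v) = v := by
  obtain ⟨c, hc⟩ := scalar_of_TS2 hG (n := (b : V →ₗ[F] V) - ((b⁻¹ : V ≃ₗ[F] V) : V →ₗ[F] V)) (by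
    intro u v huv
    show polar Q v (b u - b⁻¹ u) = 0
    rw [polar_sub_right, polar_inv hb, polar_comm Q (b v) u, h u v huv, sub_self])
  have hc' : ∀ v, b v - b⁻¹ v = c • v := hc
  obtain ⟨x, y, hxy⟩ := hG.exists_hyp
  have h1 : polar Q x (b y) - polar Q (b x) y = c := by
    rw [← polar_inv hb, ← polar_sub_right, hc', polar_smul_right, hxy.pair, smul_eq_mul, mul_one]
  have h3 : polar Q y (b x) - polar Q (b y) x = c := by
    rw [← polar_inv hb, ← polar_sub_right, hc', polar_smul_right, hxy.pair', smul_eq_mul, mul_one]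
  rw [polar_comm Q (b x) y] at h1
  rw [polar_comm Q (b y) x] at h3
  have hc0 : c = 0 := by
    have : 2 * c = 0 := by linear_combination -h1 - h3
    exact (mul_eq_zero.1 this).resolve_left h2
  intro v
  have h4 := hc' v
  rw [hc0, zero_smul, sub_eq_zero] at h4
  rw [h4]
  exact LinearEquiv.apply_symm_apply b v

section

variable [Finite F] [FiniteDimensional F V]

theorem exists_P_of_NoN (hG : Good Q) {a : V →ₗ[F] V} (hns : ∀ c : F, ∃ v, a v ≠ c • v) :
    ∃ u v, TS2 Q u v ∧ polar Q v (a u) ≠ 0 := by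
  by_contra hcon
  push Not at hcon
  obtain ⟨c, hc⟩ := scalar_of_TS2 hG hcon
  obtain ⟨v, hv⟩ := hns c
  exact hv (hc v)

/-- the functional `w ↦ B(w, p)` -/
theorem extend_perp (hQ : Nondeg Q) (hd : 7 ≤ finrank F V) {u v p : V} (h : TS2 Q u v)
    (hv : polar Q v p ≠ 0) : ∃ w, TS3 Q u v w ∧ polar Q w p = 0 := by
  obtain ⟨w, hw, hw0⟩ := h.extend_zero hQ hd (polarBilin Q p) (by
    show polar Q p v ≠ 0
    rw [polar_comm]
    exact hv)
  refine ⟨w, hw, ?_⟩
  rw [polar_comm]
  exact hw0

variable {a b : V →ₗ[F] V}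

/-- (5) -/
theorem symm_of_NoN (hG : Good Q) (hd : 7 ≤ finrank F V) (hW : Weak Q a b) (ha : NoN Q a)
    (hns : ∀ c : F, ∃ v, a v ≠ c • v) {x z : V} (hxz : TS2 Q x z) : polar Q z (b x) = polar Q x (b z) := by
  obtain ⟨u, v, huv, hv⟩ := exists_P_of_NoN hG hns
  obtain ⟨w, hw, hw0⟩ := extend_perp hG.nondeg hd huv hv
  obtain ⟨y, hy⟩ := hxz.extend hG.nondeg hd
  have h1 := hW u v w x y z hw hy.swap23
  have e1 := ha.skew hw.left
  have e2 := ha.skew hw.outer
  have e3 := ha.skew hw.right
  have e4 := ha u hw.hu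
  have e5 := ha v hw.hv
  have e6 := ha w hw.hw
  rw [hw0, add_zero] at e2
  have e1' : polar Q u (a v) = -polar Q v (a u) := by linear_combination e1
  have e3' : polar Q v (a w) = -polar Q w (a v) := by linear_combination e3
  unfold D12 Dm at h1
  rw [e2, e4, e5, e6, hw0, e1', e3'] at h1
  have h3 : (polar Q v (a u) * (polar Q z (b x) - polar Q x (b z))) ^ 2 = 0 := by
    linear_combination h1
  have h4 := (mul_eq_zero.1 ((pow_eq_zero_iff two_ne_zero).1 h3)).resolve_left hv
  exact sub_eq_zero.1 h4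

/-- (1) -/
theorem sigma_zero (h2 : (2 : F) ≠ 0) (hG : Good Q) (hd : 7 ≤ finrank F V) (hW : Weak Q a b) (hb : ¬ NoN Q b)
    {u v : V} (huv : TS2 Q u v) (hu : polar Q u (a u) = 0) : polar Q u (a v) + polar Q v (a u) = 0 := by
  by_contra hs
  unfold NoN at hb
  push Not at hb
  obtain ⟨x, hx, hbx⟩ := hb
  have hx0 : x ≠ 0 := by
    rintro rfl
    apply hbx
    rw [polar_zero_left]
  obtain ⟨y0, hy0⟩ := exists_TS2 hG.nondeg hG.dim hx hx0
  obtain ⟨z0, hz0⟩ := hy0.extend hG.nondeg hd
  have h22 : 2 * polar Q x (b x) ≠ 0 := mul_ne_zero h2 hbx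
  -- adjust `y`, `z`
  have hadj : ∀ y : V, ∃ c : F, polar Q x (b (y + c • x)) + polar Q (y + c • x) (b x) = 0 := by
    intro y
    refine ⟨-((polar Q x (b y) + polar Q y (b x)) / (2 * polar Q x (b x))), ?_⟩
    rw [map_add, map_smul, polar_add_right, polar_add_left, polar_smul_right, polar_smul_left]
    simp only [smul_eq_mul]
    field_simp
    ring
  obtain ⟨c, hc⟩ := hadj y0
  obtain ⟨d, hd'⟩ := hadj z0
  have hT : TS3 Q x (y0 + c • x) (z0 + d • x) := by
    have h1 := hz0.add_second c 0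
    rw [zero_smul, add_zero] at h1
    have h3 := h1.add_third d 0
    rwa [zero_smul, add_zero] at h3
  set y := y0 + c • x with hy
  set z := z0 + d • x with hz
  clear_value y z
  obtain ⟨w, hw, hw0⟩ := huv.extend_zero hG.nondeg hd
    (polarBilin Q (a u) + (polarBilin Q u) ∘ₗ a) (by
      show polar Q (a u) v + polar Q u (a v) ≠ 0
      rw [polar_comm Q (a u) v, add_comm]
      exact hs)
  have hw0' : polar Q w (a u) + polar Q u (a w) = 0 := by
    rw [polar_comm Q w (a u)]
    exact hw0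
  have key : ∀ γ : F, (D12 Q a u v w b x y z - γ * (polar Q x (b x) * (polar Q u (a v) + polar Q v (a u)))) ^ 2 =
      4 * Dm Q a u v b x y * Dm Q a u w b x z := by
    intro γ
    have h1 := hW u v (w + γ • u) x y z (by
      have h3 := hw.add_third γ 0
      rwa [zero_smul, add_zero] at h3) hT
    have e1 : D12 Q a u v (w + γ • u) b x y z =
        D12 Q a u v w b x y z - γ * (polar Q x (b x) * (polar Q u (a v) + polar Q v (a u))) := by
      unfold D12
      simp only [map_add, map_smul, polar_add_right, polar_add_left, polar_smul_right, polar_smul_left,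
        smul_eq_mul, hu]
      ring
    have e2 : Dm Q a u (w + γ • u) b x z = Dm Q a u w b x z := by
      unfold Dm
      simp only [map_add, map_smul, polar_add_right, polar_add_left, polar_smul_right, polar_smul_left,
        smul_eq_mul, hu]
      linear_combination (-(polar Q x (b x)) * γ) * hw0'
    rw [e1, e2] at h1
    exact h1
  set m := polar Q x (b x) * (polar Q u (a v) + polar Q v (a u)) with hm
  have hm0 : m ≠ 0 := mul_ne_zero hbx hs
  have k0 := key 0
  have k1 := key 1
  have k2 := key (-1)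
  have h4 : (2 * 2) * (D12 Q a u v w b x y z * m) = 0 := by linear_combination k2 - k1
  have h5 : D12 Q a u v w b x y z * m = 0 := (mul_eq_zero.1 h4).resolve_left (mul_ne_zero h2 h2)
  have h6 : m ^ 2 = 0 := by linear_combination k1 - k0 + 2 * h5
  exact hm0 ((pow_eq_zero_iff two_ne_zero).1 h6)

/-- (2) -/
theorem NoP_of_P (h2 : (2 : F) ≠ 0) (hG : Good Q) (hd : 7 ≤ finrank F V) (hW : Weak Q a b) (ha : ¬ NoN Q a)
    (hb : ¬ NoN Q b) (hP : ¬ NoP Q a) : NoP Q b := by
  unfold NoP at hP
  push Not at hP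
  obtain ⟨u, hu, huu, hup⟩ := hP
  have hu0 : u ≠ 0 := by
    rintro rfl
    apply hup 0
    simp
  intro x hx hxx
  by_cases hx0 : x = 0
  · exact ⟨0, by rw [hx0]; simp⟩
  refine mem_span_of_TS2 hG.nondeg hG.dim hx hx0 fun z hz => ?_
  obtain ⟨v, huv, hv⟩ : ∃ v, TS2 Q u v ∧ polar Q v (a u) ≠ 0 := by
    by_contra hcon
    push Not at hcon
    obtain ⟨c, hc⟩ := mem_span_of_TS2 hG.nondeg hG.dim hu hu0 hcon
    exact hup c hc
  obtain ⟨w, hw, hw0⟩ := extend_perp hG.nondeg hd huv hv
  obtain ⟨y, hy⟩ := hz.extend hG.nondeg hd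
  have hT := hy.swap23
  have h1 := hW u v w x y z hw hT
  have e1 := sigma_zero h2 hG hd hW hb hw.left huu
  have e2 := sigma_zero h2 hG hd hW hb hw.outer huu
  have f1 := sigma_zero h2 hG hd hW.symm ha hT.left hxx
  have f2 := sigma_zero h2 hG hd hW.symm ha hT.outer hxx
  rw [hw0, add_zero] at e2
  have e1' : polar Q u (a v) = -polar Q v (a u) := by linear_combination e1
  have f1' : polar Q x (b y) = -polar Q y (b x) := by linear_combination f1
  have f2' : polar Q x (b z) = -polar Q z (b x) := by linear_combination f2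
  unfold D12 Dm at h1
  rw [huu, hxx, e2, hw0, e1', f1', f2'] at h1
  have h3 : (2 * (polar Q v (a u) * polar Q z (b x))) ^ 2 = 0 := by
    linear_combination h1
  have h4 := (mul_eq_zero.1 ((pow_eq_zero_iff two_ne_zero).1 h3)).resolve_left h2
  exact (mul_eq_zero.1 h4).resolve_left hv

/-- (3a) -/
theorem disc_zero (hG : Good Q) (hd : 7 ≤ finrank F V) {b : V ≃ₗ[F] V} (hbO : b ∈ O Q)
    (hW : Weak Q a (b : V →ₗ[F] V)) (ha : ¬ NoN Q a) {z x y : V} (h : TS3 Q z x y) {l : F} (hz : b z = l • z) :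
    (polar Q x (b y) + polar Q y (b x)) ^ 2 = 4 * polar Q x (b x) * polar Q y (b y) := by
  unfold NoN at ha
  push Not at ha
  obtain ⟨u, hu, huu⟩ := ha
  have hu0 : u ≠ 0 := by
    rintro rfl
    apply huu
    rw [polar_zero_left]
  obtain ⟨v, hv⟩ := exists_TS2 hG.nondeg hG.dim hu hu0
  obtain ⟨w, hw⟩ := hv.extend hG.nondeg hd
  have hz0 := h.left.ne_left
  have hl : l ≠ 0 := by
    rintro rfl
    rw [zero_smul] at hz
    exact hz0 ((map_eq_zero_iff b b.injective).1 hz)
  have hzb : ∀ t, polar Q z t = 0 → polar Q z (b t) = 0 := by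
    intro t ht
    have h1 := polar_map hbO z t
    rw [hz, polar_smul_left, ht, smul_eq_mul] at h1
    exact (mul_eq_zero.1 h1).resolve_left hl
  have hbz : ∀ t, polar Q z t = 0 → polar Q t (b z) = 0 := by
    intro t ht
    rw [hz, polar_smul_right, polar_comm Q t z, ht, smul_zero]
  have g0 : polar Q z ((b : V →ₗ[F] V) z) = 0 := hzb z (polar_self_of_sing h.hu)
  have g1 : polar Q z ((b : V →ₗ[F] V) x) = 0 := hzb x h.huv
  have g2 : polar Q z ((b : V →ₗ[F] V) y) = 0 := hzb y h.huw
  have g3 : polar Q x ((b : V →ₗ[F] V) z) = 0 := hbz x h.huv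
  have g4 : polar Q y ((b : V →ₗ[F] V) z) = 0 := hbz y h.huw
  have h1 := hW u v w z x y hw h
  unfold D12 Dm at h1
  rw [g0, g1, g2, g3, g4] at h1
  have h3 : (polar Q u (a u)) ^ 2 * ((polar Q x ((b : V →ₗ[F] V) y) + polar Q y ((b : V →ₗ[F] V) x)) ^ 2 -
      4 * polar Q x ((b : V →ₗ[F] V) x) * polar Q y ((b : V →ₗ[F] V) y)) = 0 := by
    linear_combination h1
  have h4 := (mul_eq_zero.1 h3).resolve_left (pow_ne_zero 2 huu)
  exact sub_eq_zero.1 h4

/-- (3c) -/
theorem symm_of_eigen {b : V ≃ₗ[F] V} (hbO : b ∈ O Q) {x y : V} (h : TS2 Q x y) {α β l : F}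
    (h0 : ¬ (α = 0 ∧ β = 0)) (hz : b (α • x + β • y) = l • (α • x + β • y)) :
    polar Q y (b x) = polar Q x (b y) := by
  have hl : l ≠ 0 := by
    rintro rfl
    rw [zero_smul] at hz
    exact h0 (h.ind _ _ ((map_eq_zero_iff b b.injective).1 hz))
  have hxx := polar_self_of_sing h.hu
  have hyy := polar_self_of_sing h.hv
  have hyx := h.swap.huv
  have hzb : ∀ t, polar Q (α • x + β • y) t = 0 → polar Q (α • x + β • y) (b t) = 0 := by
    intro t ht
    have h1 := polar_map hbO (α • x + β • y) t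
    rw [hz, polar_smul_left, ht, smul_eq_mul] at h1
    exact (mul_eq_zero.1 h1).resolve_left hl
  have k1 := hzb x (by
    rw [polar_add_left, polar_smul_left, polar_smul_left, hxx, hyx]; simp)
  have k2 := hzb y (by
    rw [polar_add_left, polar_smul_left, polar_smul_left, hyy, h.huv]; simp)
  rw [polar_add_left, polar_smul_left, polar_smul_left, smul_eq_mul, smul_eq_mul] at k1 k2
  have k3 : polar Q x (b (α • x + β • y)) = 0 := by
    rw [hz, polar_smul_right, polar_add_right, polar_smul_right, polar_smul_right, hxx, h.huv]; simp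
  have k4 : polar Q y (b (α • x + β • y)) = 0 := by
    rw [hz, polar_smul_right, polar_add_right, polar_smul_right, polar_smul_right, hyy, hyx]; simp
  rw [map_add, map_smul, map_smul, polar_add_right, polar_smul_right, polar_smul_right, smul_eq_mul,
    smul_eq_mul] at k3 k4
  have k5 : β * (polar Q y (b x) - polar Q x (b y)) = 0 := by linear_combination k1 - k3
  have k6 : α * (polar Q y (b x) - polar Q x (b y)) = 0 := by linear_combination k4 - k2
  by_contra hne
  have hne' := sub_ne_zero.2 hne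
  exact h0 ⟨(mul_eq_zero.1 k6).resolve_right hne', (mul_eq_zero.1 k5).resolve_right hne'⟩

/-- (3b) -/
theorem symm_of_NoP (h2 : (2 : F) ≠ 0) (hG : Good Q) (hd : 7 ≤ finrank F V) {b : V ≃ₗ[F] V} (hbO : b ∈ O Q)
    (hW : Weak Q a (b : V →ₗ[F] V)) (ha : ¬ NoN Q a) (hP : NoP Q (b : V →ₗ[F] V)) {x y : V} (h : TS2 Q x y) :
    polar Q y (b x) = polar Q x (b y) := by
  obtain ⟨w, hw⟩ := h.extend hG.nondeg hd
  -- binary case
  have hbin : ∀ α β : F, ¬ (α = 0 ∧ β = 0) → polar Q (α • x + β • y) (b (α • x + β • y)) = 0 →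
      polar Q y (b x) = polar Q x (b y) := by
    intro α β h0 hz
    obtain ⟨l, hl⟩ := hP (α • x + β • y) (by
      rw [Q_add, QuadraticMap.map_smul, QuadraticMap.map_smul, polar_smul_left, polar_smul_right, h.hu, h.hv, h.huv]
      simp) hz
    exact symm_of_eigen hbO h h0 hl
  obtain ⟨t, ht0, ht⟩ := exists_ternary_zero (polar Q x (b x)) (polar Q y (b y)) (polar Q w (b w))
    (polar Q x (b y) + polar Q y (b x)) (polar Q x (b w) + polar Q w (b x)) (polar Q y (b w) + polar Q w (b y))
  set z := t 0 • x + t 1 • y + t 2 • w with hz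
  have hzs : Q z = 0 := by
    rw [hz, Q_add, Q_add, QuadraticMap.map_smul, QuadraticMap.map_smul, QuadraticMap.map_smul, polar_add_left]
    simp only [polar_smul_left, polar_smul_right, h.hu, h.hv, hw.hw, h.huv, hw.huw, hw.hvw]
    simp
  have hzb : polar Q z (b z) = 0 := by
    rw [← ht, hz]
    simp only [map_add, map_smul, polar_add_left, polar_add_right, polar_smul_left, polar_smul_right,
      smul_eq_mul]
    ring
  by_cases ht2 : t 2 = 0
  · refine hbin (t 0) (t 1) ?_ ?_
    · rintro ⟨h0, h1⟩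
      apply ht0
      funext i
      fin_cases i
      · exact h0
      · exact h1
      · exact ht2
    · rw [hz, ht2, zero_smul, add_zero] at hzb
      exact hzb
  · obtain ⟨l, hl⟩ := hP z hzs hzb
    have hT : TS3 Q z x y := by
      have h1 := (hw.smul_third ht2).add_third (t 0) (t 1)
      have e : t 2 • w + t 0 • x + t 1 • y = z := by rw [hz]; module
      rw [e] at h1
      exact h1.swap23.swap12
    have h3 := disc_zero hG hd hbO hW ha hT hl
    by_cases hx : polar Q x (b x) = 0
    · refine hbin 1 0 (by simp) ?_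
      rw [one_smul, zero_smul, add_zero]
      exact hx
    · refine hbin (-(polar Q x (b y) + polar Q y (b x)) / (2 * polar Q x (b x))) 1 (by simp) ?_
      simp only [map_add, map_smul, polar_add_left, polar_add_right, polar_smul_left, polar_smul_right,
        smul_eq_mul, one_smul]
      field_simp
      linear_combination (-(1 : F)) * h3

end

end Cfsg.Agent.H445.AH
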