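import Cfsg.Agent.H445.AH.OInv
import Cfsg.Agent.S0760

/-!
# S2451 (C), orthogonal groups in odd characteristic: the end (helper445)

`AllU Q a b` : all the products `a (g b g⁻¹)`, `g ∈ E Q`, are `± unipotent`.

* `even_odd` : contradiction in even dimension `≥ 8`;
* `omega_odd` : contradiction in odd dimension `≥ 7`.
-/

set_option autoImplicit false
set_option linter.unusedSectionVars false

namespace Cfsg.Agent.H445.AH

open QuadraticMap Cfsg.Agent.LieClassical.OrthCore Cfsg.Agent.LieClassical.OrthTrans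
  Cfsg.Agent.LieClassical.OrthFinite Cfsg.Agent.H883.Sub Module

variable {F V : Type*} [Field F] [AddCommGroup V] [Module F V] {Q : QuadraticForm F V}

/-! ### Unipotent elements up to sign -/

/-- the linear map of an automorphism -/
def toEnd (z : V ≃ₗ[F] V) : Module.End F V := (z : V →ₗ[F] V)

theorem toEnd_mul (y z : V ≃ₗ[F] V) : toEnd (y * z) = toEnd y * toEnd z := rfl

theorem toEnd_one : toEnd (1 : V ≃ₗ[F] V) = 1 := rfl

/-- `z` is `ε` times unipotent -/
def Uni (z : V ≃ₗ[F] V) (ε : F) : Prop := IsNilpotent (toEnd z - ε • (1 : Module.End F V))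

/-- all products are unipotent up to sign -/
def AllU (Q : QuadraticForm F V) (a b : V ≃ₗ[F] V) : Prop :=
  ∀ g ∈ E Q, ∃ ε : F, (ε = 1 ∨ ε = -1) ∧ Uni (a * (g * b * g⁻¹)) ε

theorem Uni.conj {z : V ≃ₗ[F] V} {ε : F} (h : Uni z ε) (y : V ≃ₗ[F] V) : Uni (y * z * y⁻¹) ε := by
  obtain ⟨k, hk⟩ := h
  refine ⟨k, ?_⟩
  have e1 : toEnd y * toEnd y⁻¹ = 1 := by rw [← toEnd_mul, mul_inv_cancel, toEnd_one]
  have e2 : toEnd y⁻¹ * toEnd y = 1 := by rw [← toEnd_mul, inv_mul_cancel, toEnd_one]
  have h1 : ∀ n : ℕ, (toEnd y * (toEnd z - ε • (1 : Module.End F V)) * toEnd y⁻¹) ^ n =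
      toEnd y * (toEnd z - ε • (1 : Module.End F V)) ^ n * toEnd y⁻¹ := by
    intro n
    induction n with
    | zero => rw [pow_zero, pow_zero, mul_one, e1]
    | succ n ih =>
      rw [pow_succ, ih, pow_succ]
      calc toEnd y * (toEnd z - ε • (1 : Module.End F V)) ^ n * toEnd y⁻¹ *
            (toEnd y * (toEnd z - ε • (1 : Module.End F V)) * toEnd y⁻¹)
          = toEnd y * (toEnd z - ε • (1 : Module.End F V)) ^ n * (toEnd y⁻¹ * toEnd y) *
            (toEnd z - ε • (1 : Module.End F V)) * toEnd y⁻¹ := by simp only [mul_assoc]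
        _ = _ := by rw [e2, mul_one]; simp only [mul_assoc]
  have e3 : toEnd (y * z * y⁻¹) - ε • (1 : Module.End F V) =
      toEnd y * (toEnd z - ε • (1 : Module.End F V)) * toEnd y⁻¹ := by
    rw [toEnd_mul, toEnd_mul, mul_sub, sub_mul, mul_smul_comm, mul_one, smul_mul_assoc, e1]
  rw [e3, h1, hk, mul_zero, zero_mul]

theorem AllU.symm {a b : V ≃ₗ[F] V} (h : AllU Q a b) : AllU Q b a := by
  intro g hg
  obtain ⟨ε, hε, hu⟩ := h g⁻¹ ((E Q).inv_mem hg)
  refine ⟨ε, hε, ?_⟩
  have h1 := hu.conj (g * a⁻¹)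
  have e : g * a⁻¹ * (a * (g⁻¹ * b * g⁻¹⁻¹)) * (g * a⁻¹)⁻¹ = b * (g * a * g⁻¹) := by group
  rwa [e] at h1

theorem eq_zero_of_nilp {n : Module.End F V} (hn : IsNilpotent n) {c0 c1 : F} (hc : c0 ≠ 0) {v : V}
    (h : n (n v) + c1 • n v + c0 • v = 0) : v = 0 := by
  have hc' : Commute n (n + c1 • (1 : Module.End F V)) := by
    refine (Commute.refl n).add_right ?_
    exact (Commute.one_right n).smul_right c1
  obtain ⟨k, hk⟩ := hc'.isNilpotent_mul_right hn
  have h1 : (n * (n + c1 • (1 : Module.End F V))) v = (-c0) • v := by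
    show n ((n + c1 • (1 : Module.End F V)) v) = _
    rw [LinearMap.add_apply, LinearMap.smul_apply, Module.End.one_apply, map_add, map_smul, neg_smul]
    exact eq_neg_of_add_eq_zero_left h
  have h2 : ∀ j : ℕ, ((n * (n + c1 • (1 : Module.End F V))) ^ j) v = (-c0) ^ j • v := by
    intro j
    induction j with
    | zero => simp
    | succ j ih =>
      rw [pow_succ', Module.End.mul_apply, ih, map_smul, h1, smul_smul, pow_succ]
  have h3 := h2 k
  rw [hk, LinearMap.zero_apply] at h3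
  exact (smul_eq_zero.1 h3.symm).resolve_left (pow_ne_zero k (neg_ne_zero.2 hc))

/-- eigenvalues -/
theorem Uni.eigen {z : V ≃ₗ[F] V} {ε l : F} (h : Uni z ε) {w : V} (hw : w ≠ 0) (hz : z w = l • w) : l = ε := by
  by_contra hne
  apply hw
  have hn : (toEnd z - ε • (1 : Module.End F V)) w = (l - ε) • w := by
    rw [LinearMap.sub_apply, LinearMap.smul_apply, Module.End.one_apply, sub_smul, ← hz]
    rfl
  refine eq_zero_of_nilp h (c1 := 0) (c0 := -((l - ε) * (l - ε))) ?_ (v := w) ?_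
  · exact neg_ne_zero.2 (mul_ne_zero (sub_ne_zero.2 hne) (sub_ne_zero.2 hne))
  · rw [hn, map_smul, hn]
    module

/-- quadratic relations -/
theorem Uni.quad {z : V ≃ₗ[F] V} {ε κ : F} (h : Uni z ε) (hε : ε * ε = 1) {w : V} (hw : w ≠ 0)
    (hz : z (z w) = κ • z w - w) : κ = 2 * ε := by
  by_contra hne
  apply hw
  have hn : ∀ v, (toEnd z - ε • (1 : Module.End F V)) v = z v - ε • v := fun v => rfl
  have hε0 : ε ≠ 0 := by
    rintro rfl
    simp at hε
  refine eq_zero_of_nilp h (c1 := -(κ - 2 * ε)) (c0 := -((κ - 2 * ε) * ε)) ?_ (v := w) ?_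
  · exact neg_ne_zero.2 (mul_ne_zero (sub_ne_zero.2 hne) hε0)
  · rw [hn, hn, map_sub, map_smul, hz]
    have e : (κ • z w - w - ε • z w - ε • (z w - ε • w) + -(κ - 2 * ε) • (z w - ε • w) + -((κ - 2 * ε) * ε) • w) =
        (ε * ε - 1) • w := by module
    rw [e, hε, sub_self, zero_smul]

theorem Uni.trace [FiniteDimensional F V] {a b : V ≃ₗ[F] V} {ε : F} (h : Uni (a * b) ε) :
    tr2 a b = ε * (finrank F V : F) := by
  have h1 := LinearMap.isNilpotent_trace_of_isNilpotent h
  have h2 := h1.eq_zero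
  rw [map_sub, map_smul, LinearMap.trace_one, smul_eq_mul, sub_eq_zero] at h2
  rw [← h2]
  rfl

section Fin

variable [Finite F] [FiniteDimensional F V]

theorem AllU.weak (h2 : (2 : F) ≠ 0) (hG : Good Q) (hd : 8 ≤ finrank F V) {a b : V ≃ₗ[F] V} (h : AllU Q a b) :
    Weak Q (a : V →ₗ[F] V) (b : V →ₗ[F] V) := by
  intro u v w x y z h1 h3
  refine weak_id h2 hG hd (n := (finrank F V : F)) ?_ h1 h3
  intro g hg
  obtain ⟨ε, hε, hu⟩ := h g hg
  rw [hu.trace]
  rcases hε with rfl | rfl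
  · left
    ring
  · right
    ring

/-- quadratic equation of `a` -/
theorem kappa_apply {a : V ≃ₗ[F] V} {κ : F} (h : ∀ v, a v + a⁻¹ v = κ • v) (v : V) : a (a v) = κ • a v - v := by
  have h1 := h (a v)
  have h3 : a⁻¹ (a v) = v := LinearEquiv.symm_apply_apply a v
  rw [h3] at h1
  rw [← h1]
  abel

theorem polar_kappa {a : V ≃ₗ[F] V} (ha : a ∈ O Q) {κ : F} (h : ∀ v, a v + a⁻¹ v = κ • v) (u v : V) :
    polar Q u (a v) + polar Q (a u) v = κ * polar Q u v := by
  rw [← polar_inv ha, ← polar_add_right, h, polar_smul_right, smul_eq_mul]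

/-- the range of `a - e` is totally singular if `κ = 2 e` -/
theorem range_sing (h2 : (2 : F) ≠ 0) {a : V ≃ₗ[F] V} (ha : a ∈ O Q) {e : F} (he : e * e = 1)
    (h : ∀ v, a v + a⁻¹ v = (2 * e) • v) :
    ∀ w ∈ LinearMap.range ((a : V →ₗ[F] V) - e • LinearMap.id), Q w = 0 := by
  rintro _ ⟨u, rfl⟩
  have e1 : ((a : V →ₗ[F] V) - e • (LinearMap.id : V →ₗ[F] V)) u = a u - e • u := rfl
  rw [e1]
  have h1 : 2 * Q (a u - e • u) = 0 := by
    rw [← polar_self', polar_sub_left, polar_sub_right, polar_sub_right, polar_map ha, polar_smul_right,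
      polar_smul_left, polar_smul_left, polar_smul_right]
    have h3 := polar_kappa ha h u u
    simp only [smul_eq_mul]
    linear_combination (-e) * h3 - (polar Q u u) * he
  exact (mul_eq_zero.1 h1).resolve_left h2

theorem finrank_ker_range (a : V ≃ₗ[F] V) (e : F) :
    finrank F (LinearMap.range ((a : V →ₗ[F] V) - e • LinearMap.id)) + finrank F (eg a e) = finrank F V :=
  LinearMap.finrank_range_add_finrank_ker _

/-- case `κ ≠ ± 2` -/
theorem final_kappa (h2 : (2 : F) ≠ 0) (hG : Good Q) (hd : 8 ≤ finrank F V)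
    {a b : V ≃ₗ[F] V} (ha : a ∈ O Q) (hb : b ∈ O Q) (hsq : ∀ v, b (b v) = v) {κ : F}
    (hκ : ∀ v, a v + a⁻¹ v = κ • v) (hk1 : κ ≠ 2) (hk2 : κ ≠ -2) (h : AllU Q a b) : False := by
  have hQ := hG.nondeg
  have hκκ : κ * κ ≠ 4 := by
    intro h4
    have : (κ - 2) * (κ + 2) = 0 := by linear_combination h4
    rcases mul_eq_zero.1 this with h | h
    · exact hk1 (sub_eq_zero.1 h)
    · exact hk2 (eq_neg_of_add_eq_zero_left h)
  obtain ⟨ε, hε, hε', hdim⟩ : ∃ ε : F, ε * ε = 1 ∧ (ε = 1 ∨ ε = -1) ∧ 4 ≤ finrank F (eg b ε) := by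
    have h3 := finrank_eg h2 hQ hb hsq (ε := 1) (by ring)
    by_cases h4 : 4 ≤ finrank F (eg b 1)
    · exact ⟨1, by ring, Or.inl rfl, h4⟩
    · exact ⟨-1, by ring, Or.inr rfl, by omega⟩
  obtain ⟨v, -, hv⟩ := exists_value_perp hQ (⊥ : Submodule F V) (by rw [finrank_bot]; omega) (one_ne_zero (α := F))
  obtain ⟨x, hx, hQx⟩ := exists_value_eg h2 hQ hb hsq hε (by omega) (one_ne_zero (α := F))
  have hxx : polar Q x x = 2 := by rw [polar_self', hQx, mul_one]
  have hvv : polar Q v v = 2 := by rw [polar_self', hv, mul_one]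
  set Y := eg b ε ⊓ LinearMap.ker (polarBilin Q x) with hY
  have hYd := finrank_inf_polar (Q := Q) (eg b ε) x
  rw [← hY] at hYd
  have hYr : Y ⊓ perp Q Y = ⊥ := by
    rw [Submodule.eq_bot_iff]
    intro y hy
    refine nondegOn_eg h2 hQ hb hsq hε y hy.1.1 fun w hw => ?_
    have hw' : w - (polar Q x w * 2⁻¹) • x ∈ Y := by
      refine ⟨Submodule.sub_mem _ hw (Submodule.smul_mem _ _ hx), ?_⟩
      rw [SetLike.mem_coe, LinearMap.mem_ker]
      show polar Q x _ = 0
      rw [polar_sub_right, polar_smul_right, hxx, smul_eq_mul, mul_assoc, inv_mul_cancel₀ h2, mul_one, sub_self]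
    have h3 := mem_perp'.1 hy.2 _ hw'
    have h4 : polar Q y x = 0 := by
      rw [polar_comm]
      exact hy.1.2
    rw [polar_sub_right, polar_smul_right, h4, smul_zero, sub_zero] at h3
    exact h3
  have hκ2 : κ = 2 * (κ / 2) := by field_simp
  have hc : 1 - κ / 2 * (κ / 2) ≠ 0 := by
    intro h0
    apply hκκ
    linear_combination (-4 : F) * h0 + (κ + 2 * (κ / 2)) * hκ2
  obtain ⟨y', hy', hQy'⟩ := exists_value_mem (Q := Q) (Y := Y) (by
    rw [hYr, finrank_bot]
    omega) _ hc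
  have hxy' : polar Q x y' = 0 := hy'.2
  have hby' : b y' = ε • y' := mem_eg.1 hy'.1
  have hbx : b x = ε • x := mem_eg.1 hx
  set y := (κ / 2) • x + y' with hy
  have hQy : Q y = 1 := by
    rw [hy, Q_add, QuadraticMap.map_smul, polar_smul_left, hQx, hQy', hxy', smul_eq_mul, smul_eq_mul]
    ring
  have hxy : polar Q x y = κ := by
    rw [hy, polar_add_right, polar_smul_right, hxx, hxy', smul_eq_mul]
    linear_combination -hκ2
  have hby : b y = ε • y := by rw [hy, map_add, map_smul, hbx, hby', smul_add, smul_comm]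
  have hyy : polar Q y y = 2 := by rw [polar_self', hQy, mul_one]
  have hvav : polar Q v (a v) = κ := by
    have h3 := polar_kappa ha hκ v v
    rw [polar_comm Q (a v) v, hvv] at h3
    have h4 : 2 * (polar Q v (a v) - κ) = 0 := by linear_combination h3
    exact sub_eq_zero.1 ((mul_eq_zero.1 h4).resolve_left h2)
  have haa : polar Q (a v) (a v) = 2 := by rw [polar_map ha, hvv]
  have hli : ∀ s t : V, polar Q s s = 2 → polar Q t t = 2 → polar Q s t = κ → LinearIndependent F ![s, t] := by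
    intro s t hs ht hst
    rw [LinearIndependent.pair_iff]
    intro α β h0
    have k1 : polar Q s (α • s + β • t) = 0 := by rw [h0, polar_zero_right]
    have k2 : polar Q t (α • s + β • t) = 0 := by rw [h0, polar_zero_right]
    rw [polar_add_right, polar_smul_right, polar_smul_right, hs, hst, smul_eq_mul, smul_eq_mul] at k1
    rw [polar_add_right, polar_smul_right, polar_smul_right, ht, polar_comm Q t s, hst, smul_eq_mul,
      smul_eq_mul] at k2
    have h4 : (4 - κ * κ) ≠ 0 := by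
      intro h4
      exact hκκ (sub_eq_zero.1 h4).symm
    constructor
    · have : (4 - κ * κ) * α = 0 := by linear_combination 2 * k1 - κ * k2
      exact (mul_eq_zero.1 this).resolve_left h4
    · have : (4 - κ * κ) * β = 0 := by linear_combination 2 * k2 - κ * k1
      exact (mul_eq_zero.1 this).resolve_left h4
  obtain ⟨g, hg, hgx⟩ := exists_E_family hG ![x, y] ![v, a v] (hli x y hxx hyy hxy) (hli v (a v) hvv haa hvav)
    (by
      intro i
      fin_cases i
      · show Q x = Q v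
        rw [hQx, hv]
      · show Q y = Q (a v)
        rw [hQy, mem_O.1 ha, hv])
    (by
      intro i j
      fin_cases i <;> fin_cases j
      · show polar Q x x = polar Q v v
        rw [hxx, hvv]
      · show polar Q x y = polar Q v (a v)
        rw [hxy, hvav]
      · show polar Q y x = polar Q (a v) v
        rw [polar_comm Q y x, polar_comm Q (a v) v, hxy, hvav]
      · show polar Q y y = polar Q (a v) (a v)
        rw [hyy, haa])
    (by omega)
  have hg0 : g x = v := hgx 0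
  have hg1 : g y = a v := hgx 1
  have hgi0 : g⁻¹ v = x := by rw [← hg0]; exact LinearEquiv.symm_apply_apply g x
  have hgi1 : g⁻¹ (a v) = y := by rw [← hg1]; exact LinearEquiv.symm_apply_apply g y
  obtain ⟨δ, hδ, hu⟩ := h g hg
  have hδδ : δ * δ = 1 := by rcases hδ with rfl | rfl <;> ring
  have hz0 : (a * (g * b * g⁻¹)) v = ε • a v := by
    show a (g (b (g⁻¹ v))) = _
    rw [hgi0, hbx, map_smul, hg0, map_smul]
  have hz1 : (a * (g * b * g⁻¹)) (a v) = ε • a (a v) := by
    show a (g (b (g⁻¹ (a v)))) = _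
    rw [hgi1, hby, map_smul, hg1, map_smul]
  have hv0 : v ≠ 0 := by
    rintro rfl
    rw [QuadraticMap.map_zero] at hv
    exact zero_ne_one hv
  have h5 := hu.quad hδδ hv0 (κ := κ * ε) (by
    rw [hz0, map_smul, hz1, smul_smul, hε, one_smul, kappa_apply hκ, smul_smul, mul_assoc, hε, mul_one])
  rcases hε' with rfl | rfl <;> rcases hδ with rfl | rfl
  · exact hk1 (by linear_combination h5)
  · exact hk2 (by linear_combination h5)
  · exact hk2 (by linear_combination -h5)
  · exact hk1 (by linear_combination -h5)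

/-- **The case `κ = ± 2`.** -/
theorem final_two (h2 : (2 : F) ≠ 0) (hG : Good Q) (hd : 8 ≤ finrank F V)
    {a b : V ≃ₗ[F] V} (ha : a ∈ O Q) (hnsa : ∀ c : F, ∃ v, a v ≠ c • v) (hb : b ∈ O Q)
    (hsm : 2 ≤ finrank F (eg b 1) ∧ 2 ≤ finrank F (eg b (-1)))
    (hsq : ∀ v, b (b v) = v) {e : F} (he : e * e = 1) (hκ : ∀ v, a v + a⁻¹ v = (2 * e) • v) (h : AllU Q a b) :
    False := by
  have hQ := hG.nondeg
  have hε1 : (1 : F) * 1 = 1 := by ring
  have hsum := finrank_eg h2 hQ hb hsq hε1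
  obtain ⟨ε, hε, hbig, hsm'⟩ : ∃ ε : F, ε * ε = 1 ∧ 3 ≤ finrank F (eg b (-ε)) ∧ 2 ≤ finrank F (eg b ε) := by
    by_cases h1 : 3 ≤ finrank F (eg b 1)
    · refine ⟨-1, by ring, ?_, hsm.2⟩
      rw [neg_neg]
      exact h1
    · exact ⟨1, hε1, by omega, hsm.1⟩
  -- `A = a - e`
  have hA2 : ∀ v, a (a v - e • v) = e • (a v - e • v) := by
    intro v
    rw [map_sub, map_smul, kappa_apply hκ]
    have e1 : (2 * e) • a v - v - e • a v - e • (a v - e • v) = (e * e - 1) • v := by module
    rw [he, sub_self, zero_smul, sub_eq_zero] at e1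
    exact e1
  have hskew : ∀ v w, polar Q v (a w - e • w) = -polar Q (a v - e • v) w := by
    intro v w
    have h3 := polar_kappa ha hκ v w
    rw [polar_sub_right, polar_sub_left, polar_smul_right, polar_smul_left]
    simp only [smul_eq_mul]
    linear_combination h3
  obtain ⟨v, hv0, hQv⟩ : ∃ v, a v - e • v ≠ 0 ∧ Q v ≠ 0 := by
    by_contra hcon
    push Not at hcon
    obtain ⟨v0, hv0⟩ := hnsa e
    have hv0' : a v0 - e • v0 ≠ 0 := sub_ne_zero.2 hv0
    apply hv0'
    apply hQ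
    intro w
    have hk : ∀ c : F, a (v0 + c • (a w - e • w)) - e • (v0 + c • (a w - e • w)) ≠ 0 := by
      intro c
      have e1 : a (v0 + c • (a w - e • w)) - e • (v0 + c • (a w - e • w)) = a v0 - e • v0 := by
        rw [map_add, map_smul, hA2]
        module
      rw [e1]
      exact hv0'
    have k0 := hcon v0 hv0'
    have k1 := hcon _ (hk 1)
    have k2 := hcon _ (hk (-1))
    rw [Q_add, QuadraticMap.map_smul, polar_smul_right, k0] at k1 k2
    simp only [smul_eq_mul] at k1 k2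
    have k3 : 2 * polar Q v0 (a w - e • w) = 0 := by linear_combination k1 - k2
    have k4 := (mul_eq_zero.1 k3).resolve_left h2
    rw [hskew] at k4
    exact neg_eq_zero.1 k4
  set A := a v - e • v with hA
  have hAv : a v = e • v + A := by rw [hA]; module
  have hAA : a A = e • A := hA2 v
  have hQA : Q A = 0 := range_sing h2 ha he hκ A ⟨v, rfl⟩
  have hvA : polar Q v A = 0 := by
    have k1 := hskew v v
    rw [← hA, polar_comm Q A v] at k1
    have k2 : 2 * polar Q v A = 0 := by linear_combination k1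
    exact (mul_eq_zero.1 k2).resolve_left h2
  have hv : v ≠ 0 := by
    rintro rfl
    exact hQv (QuadraticMap.map_zero Q)
  obtain ⟨x', hx', hx'0, hQx'⟩ := exists_sing_mem (Q := Q) (eg b (-ε)) hbig
  obtain ⟨x, hx, hQx⟩ := exists_value_eg h2 hQ hb hsq hε hsm' hQv
  have hxx' : polar Q x x' = 0 := by
    have k1 : x' ∈ perp Q (eg b ε) := by rw [perp_eg h2 hQ hb hsq hε]; exact hx'
    exact mem_perp.1 k1 x hx
  have hli : ∀ s t : V, Q s ≠ 0 → t ≠ 0 → Q t = 0 → polar Q s t = 0 → LinearIndependent F ![s, t] := by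
    intro s t hs ht hQt hst
    rw [LinearIndependent.pair_iff]
    intro α β h0
    have k1 : polar Q s (α • s + β • t) = 0 := by rw [h0, polar_zero_right]
    rw [polar_add_right, polar_smul_right, polar_smul_right, hst, polar_self'] at k1
    simp only [smul_eq_mul] at k1
    have hα : α = 0 := by
      have : α * (2 * Q s) = 0 := by linear_combination k1
      exact (mul_eq_zero.1 this).resolve_right (mul_ne_zero h2 hs)
    rw [hα, zero_smul, zero_add] at h0
    exact ⟨hα, (smul_eq_zero.1 h0).resolve_right ht⟩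
  have hQx0 : Q x ≠ 0 := by rw [hQx]; exact hQv
  obtain ⟨g, hg, hgx⟩ := exists_E_family hG ![x, x'] ![v, A] (hli x x' hQx0 hx'0 hQx' hxx')
    (hli v A hQv hv0 hQA hvA)
    (by
      intro i
      fin_cases i
      · show Q x = Q v
        rw [hQx]
      · show Q x' = Q A
        rw [hQx', hQA])
    (by
      intro i j
      fin_cases i <;> fin_cases j
      · show polar Q x x = polar Q v v
        rw [polar_self', polar_self', hQx]
      · show polar Q x x' = polar Q v A
        rw [hxx', hvA]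
      · show polar Q x' x = polar Q A v
        rw [polar_comm Q x' x, polar_comm Q A v, hxx', hvA]
      · show polar Q x' x' = polar Q A A
        rw [polar_self', polar_self', hQx', hQA])
    (by omega)
  have hg0 : g x = v := hgx 0
  have hg1 : g x' = A := hgx 1
  have hgi0 : g⁻¹ v = x := by rw [← hg0]; exact LinearEquiv.symm_apply_apply g x
  have hgi1 : g⁻¹ A = x' := by rw [← hg1]; exact LinearEquiv.symm_apply_apply g x'
  obtain ⟨δ, hδ, hu⟩ := h g hg
  have hδδ : δ * δ = 1 := by rcases hδ with rfl | rfl <;> ring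
  have hδ0 : δ ≠ 0 := by
    rintro rfl
    simp at hδδ
  have hz0 : (a * (g * b * g⁻¹)) v = (ε * e) • v + ε • A := by
    show a (g (b (g⁻¹ v))) = _
    rw [hgi0, mem_eg.1 hx, map_smul, hg0, map_smul, hAv]
    module
  have hz1 : (a * (g * b * g⁻¹)) A = (-(ε * e)) • A := by
    show a (g (b (g⁻¹ A))) = _
    rw [hgi1, mem_eg.1 hx', map_smul, hg1, map_smul, hAA]
    module
  -- `z (z v) = v`
  have hzz : (a * (g * b * g⁻¹)) ((ε * e) • v + ε • A) = v := by
    rw [map_add, map_smul, map_smul, hz0, hz1]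
    have e1 : (ε * e) • ((ε * e) • v + ε • A) + ε • -(ε * e) • A = ((ε * ε) * (e * e)) • v := by module
    rw [e1, hε, he, mul_one, one_smul]
  -- `w = z v - δ v`
  by_cases hw : (ε * e) • v + ε • A - δ • v = 0
  · -- then `A` is a multiple of `v`
    apply hv0
    have k1 : polar Q v ((ε * e) • v + ε • A - δ • v) = 0 := by rw [hw, polar_zero_right]
    rw [polar_sub_right, polar_add_right, polar_smul_right, polar_smul_right, polar_smul_right, hvA,
      polar_self'] at k1
    simp only [smul_eq_mul] at k1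
    have k2 : (ε * e - δ) * (2 * Q v) = 0 := by linear_combination k1
    have k3 : ε * e - δ = 0 := (mul_eq_zero.1 k2).resolve_right (mul_ne_zero h2 hQv)
    have k4 : ε • A = 0 := by
      have e1 : ε • A = ((ε * e) • v + ε • A - δ • v) - (ε * e - δ) • v := by module
      rw [e1, hw, k3, zero_smul, sub_zero]
    have hε0 : ε ≠ 0 := by
      rintro rfl
      simp at hε
    exact (smul_eq_zero.1 k4).resolve_left hε0
  · have k1 := hu.eigen hw (l := -δ) (by
      rw [map_sub, map_smul, hzz, hz0]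
      have e1 : v - δ • ((ε * e) • v + ε • A) - (-δ) • ((ε * e) • v + ε • A - δ • v) = (1 - δ * δ) • v := by module
      rw [hδδ, sub_self, zero_smul, sub_eq_zero] at e1
      exact e1)
    have k2 : 2 * δ = 0 := by linear_combination -k1
    exact mul_ne_zero h2 hδ0 k2

/-- **The end in even dimension.** -/
theorem final_even (h2 : (2 : F) ≠ 0) (hG : Good Q) (hd : 8 ≤ finrank F V) (hev : Even (finrank F V))
    {a b : V ≃ₗ[F] V} (ha : a ∈ O Q) (hb : b ∈ E Q) (hnsa : ∀ c : F, ∃ v, a v ≠ c • v)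
    (hnsb : ∀ c : F, ∃ v, b v ≠ c • v)
    (hN : NoN Q (a : V →ₗ[F] V)) (hsq : ∀ v, b (b v) = v) (h : AllU Q a b) : False := by
  have hQ := hG.nondeg
  have hbO := E_le_O hb
  obtain ⟨κ, hκ⟩ := kappa_of_NoN hG ha hN
  by_cases hk : κ ≠ 2 ∧ κ ≠ -2
  · exact final_kappa h2 hG hd ha hbO hsq hκ hk.1 hk.2 h
  obtain ⟨e, he, hκe⟩ : ∃ e : F, e * e = 1 ∧ κ = 2 * e := by
    by_cases h1 : κ = 2
    · exact ⟨1, by ring, by rw [h1, mul_one]⟩
    · refine ⟨-1, by ring, ?_⟩
      by_contra h3
      exact hk ⟨h1, fun h4 => h3 (by rw [h4]; ring)⟩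
  rw [hκe] at hκ
  have hε1 : (1 : F) * 1 = 1 := by ring
  have hsum := finrank_eg h2 hQ hbO hsq hε1
  have hevn := even_eg_neg h2 hQ hb hsq
  have hpos1 := eg_ne_bot h2 hQ hbO hsq hε1 hnsb
  have hpos2 := eg_ne_bot h2 hQ hbO hsq (ε := -1) (by ring) hnsb
  refine final_two h2 hG hd ha hnsa hbO ?_ hsq he hκ h
  rw [Nat.even_iff] at hev hevn
  constructor <;> omega

/-- **Even dimension, odd characteristic.** -/
theorem even_odd (h2 : (2 : F) ≠ 0) (hG : Good Q) (hd : 8 ≤ finrank F V) (hev : Even (finrank F V))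
    {a b : V ≃ₗ[F] V} (ha : a ∈ E Q) (hb : b ∈ E Q) (hnsa : ∀ c : F, ∃ v, a v ≠ c • v)
    (hnsb : ∀ c : F, ∃ v, b v ≠ c • v) (h : AllU Q a b) : False := by
  rcases odd_struct h2 hG hd hev ha hb hnsa hnsb (h.weak h2 hG hd) with ⟨h1, h3⟩ | ⟨h1, h3⟩
  · exact final_even h2 hG hd hev (E_le_O ha) hb hnsa hnsb h1 h3 h
  · exact final_even h2 hG hd hev (E_le_O hb) ha hnsb hnsa h1 h3 h.symm

/-! ### Odd dimension -/

theorem sign_one (h2 : (2 : F) ≠ 0) (hQ : Nondeg Q) (hodd : Odd (finrank F V)) {z : V ≃ₗ[F] V} (hz : z ∈ E Q)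
    {ε : F} (h : Uni z ε) : ε = 1 := by
  have h1 := H890.SpParity.even_E hQ hz
  obtain ⟨w, hw, hw0⟩ := (Submodule.ne_bot_iff (H890.SpParity.fix z)).1 (by
    intro hbot
    rw [hbot, finrank_bot, zero_add] at h1
    exact (Nat.not_even_iff_odd.2 hodd) h1)
  exact (h.eigen hw0 (l := 1) (by rw [H890.SpParity.mem_fix.1 hw, one_smul])).symm

/-- the case `NoN Q a` in odd dimension -/
theorem omega_aux (h2 : (2 : F) ≠ 0) (hG : Good Q) (hodd : Odd (finrank F V))
    {a b : V ≃ₗ[F] V} (ha : a ∈ E Q) (hb : b ∈ E Q) (hnsa : ∀ c : F, ∃ v, a v ≠ c • v)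
    (hnsb : ∀ c : F, ∃ v, b v ≠ c • v) (h : AllU Q a b) (hN : NoN Q (a : V →ₗ[F] V))
    (hid : ∀ u v x y : V, TS2 Q u v → TS2 Q x y →
      polar Q x (b y) * polar Q u (a v) + polar Q y (b x) * polar Q v (a u) = 0) : False := by
  have hQ := hG.nondeg
  have haO := E_le_O ha
  have hbO := E_le_O hb
  obtain ⟨u, v, huv, hv⟩ := exists_P_of_NoN hG (a := (a : V →ₗ[F] V)) hnsa
  have hv' : polar Q v (a u) ≠ 0 := hv
  have hsk : polar Q u (a v) + polar Q v (a u) = 0 := hN.skew huv
  have hsq : ∀ v, b (b v) = v := by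
    refine sq_of_symm h2 hG hbO fun x y hxy => ?_
    have h1 := hid u v x y huv hxy
    have h3 : polar Q v (a u) * (polar Q y (b x) - polar Q x (b y)) = 0 := by
      linear_combination h1 - polar Q x (b y) * hsk
    exact sub_eq_zero.1 ((mul_eq_zero.1 h3).resolve_left hv')
  obtain ⟨κ, hκ⟩ := kappa_of_NoN hG haO hN
  -- `κ = 2`
  have hκ2 : κ = 2 * 1 := by
    have h1 := H890.SpParity.even_E hQ ha
    obtain ⟨w, hw, hw0⟩ := (Submodule.ne_bot_iff (H890.SpParity.fix a)).1 (by
      intro hbot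
      rw [hbot, finrank_bot, zero_add] at h1
      exact (Nat.not_even_iff_odd.2 hodd) h1)
    have h3 := kappa_apply hκ w
    rw [H890.SpParity.mem_fix.1 hw, H890.SpParity.mem_fix.1 hw] at h3
    have h4 : (κ - 2 * 1) • w = 0 := by
      have e : (κ - 2 * 1) • w = (κ • w - w) - w := by module
      rw [e, ← h3, sub_self]
    exact sub_eq_zero.1 ((smul_eq_zero.1 h4).resolve_right hw0)
  rw [hκ2] at hκ
  have hr := S0760.two_mul_finrank_le Q (nondegenerate_of_nondeg hQ) _ (range_sing h2 haO (by ring) hκ)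
  have hkr := finrank_ker_range a 1
  obtain ⟨w1, hw1, hQw1⟩ : ∃ w ∈ eg a 1, Q w ≠ 0 := by
    by_contra hcon
    push Not at hcon
    have h5 := S0760.two_mul_finrank_le Q (nondegenerate_of_nondeg hQ) _ hcon
    rw [Nat.odd_iff] at hodd
    omega
  have hevn := even_eg_neg h2 hQ hb hsq
  have hpos2 := eg_ne_bot h2 hQ hbO hsq (ε := -1) (by ring) hnsb
  obtain ⟨x, hx, hQx⟩ := exists_value_eg h2 hQ hbO hsq (ε := -1) (by ring) (by
    rw [Nat.even_iff] at hevn
    omega) hQw1
  have hw10 : w1 ≠ 0 := by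
    rintro rfl
    exact hQw1 (QuadraticMap.map_zero Q)
  have hx0 : x ≠ 0 := by
    rintro rfl
    rw [QuadraticMap.map_zero] at hQx
    exact hQw1 hQx.symm
  obtain ⟨g, hg, hgx⟩ := hG.trans_norm hx0 hw10 hQx
  have hgi : g⁻¹ w1 = x := by rw [← hgx]; exact LinearEquiv.symm_apply_apply g x
  obtain ⟨δ, -, hu⟩ := h g hg
  have hzE : a * (g * b * g⁻¹) ∈ E Q := E_mul ha (E_mul (E_mul hg hb) ((E Q).inv_mem hg))
  have hδ := sign_one h2 hQ hodd hzE hu
  have k1 := hu.eigen hw10 (l := -1) (by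
    show a (g (b (g⁻¹ w1))) = _
    rw [hgi, mem_eg.1 hx, map_smul, hgx, map_smul, mem_eg.1 hw1, one_smul])
  rw [hδ] at k1
  apply h2
  linear_combination -k1

/-- **Odd dimension.** -/
theorem omega_odd (h2 : (2 : F) ≠ 0) (hG : Good Q) (hd : 7 ≤ finrank F V) (hodd : Odd (finrank F V))
    {a b : V ≃ₗ[F] V} (ha : a ∈ E Q) (hb : b ∈ E Q) (hnsa : ∀ c : F, ∃ v, a v ≠ c • v)
    (hnsb : ∀ c : F, ∃ v, b v ≠ c • v) (h : AllU Q a b) : False := by
  have hQ := hG.nondeg
  have hT : ∀ g ∈ E Q, tr2 a (g * b * g⁻¹) = (finrank F V : F) := by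
    intro g hg
    obtain ⟨ε, -, hu⟩ := h g hg
    have hzE : a * (g * b * g⁻¹) ∈ E Q := E_mul ha (E_mul (E_mul hg hb) ((E Q).inv_mem hg))
    rw [hu.trace, sign_one h2 hQ hodd hzE hu, one_mul]
  have hD : ∀ u v x y : V, TS2 Q u v → TS2 Q x y →
      polar Q x (b y) * polar Q u (a v) - polar Q y (b y) * polar Q u (a u) -
        polar Q x (b x) * polar Q v (a v) + polar Q y (b x) * polar Q v (a u) = 0 := fun u v x y h1 h3 =>
    const1 h2 hG (by omega) hT h1 h3
  have hD' : ∀ u v x y : V, TS2 Q u v → TS2 Q x y →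
      polar Q x (b y) * polar Q u (a v) + polar Q y (b x) * polar Q v (a u) = 0 ∧
      polar Q y (b y) * polar Q u (a u) + polar Q x (b x) * polar Q v (a v) = 0 := by
    intro u v x y h1 h3
    have k1 := hD u v x y h1 h3
    have k2 := hD u v x ((-1 : F) • y) h1 (h3.smul_right (neg_ne_zero.2 one_ne_zero))
    rw [map_smul] at k2
    simp only [polar_smul_left, polar_smul_right, smul_eq_mul] at k2
    constructor
    · have : 2 * (polar Q x (b y) * polar Q u (a v) + polar Q y (b x) * polar Q v (a u)) = 0 := by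
        linear_combination k1 - k2
      exact (mul_eq_zero.1 this).resolve_left h2
    · have : 2 * (polar Q y (b y) * polar Q u (a u) + polar Q x (b x) * polar Q v (a v)) = 0 := by
        linear_combination -k1 - k2
      exact (mul_eq_zero.1 this).resolve_left h2
  have hAB : NoN Q (a : V →ₗ[F] V) ∨ NoN Q (b : V →ₗ[F] V) := by
    by_contra hcon
    push Not at hcon
    obtain ⟨hna, hnb⟩ := hcon
    unfold NoN at hna hnb
    push Not at hna hnb
    obtain ⟨u, hu, huu⟩ := hna
    obtain ⟨x, hx, hxx⟩ := hnb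
    have hu0 : u ≠ 0 := by
      rintro rfl
      apply huu
      rw [polar_zero_left]
    have hx0 : x ≠ 0 := by
      rintro rfl
      apply hxx
      rw [polar_zero_left]
    obtain ⟨v, huv⟩ := exists_TS2 hQ hG.dim hu hu0
    obtain ⟨y, hxy⟩ := exists_TS2 hQ hG.dim hx hx0
    have k0 := (hD' u v x y huv hxy).2
    have k1 := (hD' u v x (y + (1 : F) • x) huv (hxy.add_right 1)).2
    have k2 := (hD' u v x (y + (-1 : F) • x) huv (hxy.add_right (-1))).2
    simp only [map_add, map_smul, polar_add_left, polar_add_right, polar_smul_left, polar_smul_right,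
      smul_eq_mul] at k1 k2
    have k3 : 2 * (polar Q x (b x) * polar Q u (a u)) = 0 := by linear_combination k1 + k2 - 2 * k0
    exact mul_ne_zero hxx huu ((mul_eq_zero.1 k3).resolve_left h2)
  rcases hAB with hN | hN
  · exact omega_aux h2 hG hodd ha hb hnsa hnsb h hN fun u v x y h1 h3 => (hD' u v x y h1 h3).1
  · refine omega_aux h2 hG hodd hb ha hnsb hnsa h.symm hN fun u v x y h1 h3 => ?_
    have := (hD' x y u v h3 h1).1
    linear_combination this

end Fin

end Cfsg.Agent.H445.AH
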