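import Cfsg.Agent.H445.AH.OAlg
import Cfsg.Agent.H890.SpParity

/-!
# S2451 (C), orthogonal groups in odd characteristic: involutions, the structure theorem (helper445)

* `eg b ε` : the eigenspace; `perp_eg`, `nondegOn_eg`, `finrank_eg`, `exists_value_eg` for an involution `b`;
* `odd_struct` : if the weak identity holds for `a`, `b` in `E Q`, `dim V` even and at least `8`, then (up to the order of `a`, `b`)
  `NoN Q a` (so `a + a⁻¹` is a scalar) and `b² = 1`.
-/

set_option autoImplicit false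
set_option linter.unusedSectionVars false

namespace Cfsg.Agent.H445.AH

open QuadraticMap Cfsg.Agent.LieClassical.OrthCore Cfsg.Agent.LieClassical.OrthTrans
  Cfsg.Agent.LieClassical.OrthFinite Cfsg.Agent.H883.Sub Module

variable {F V : Type*} [Field F] [AddCommGroup V] [Module F V] {Q : QuadraticForm F V}

/-- the eigenspace of `b` for `ε` -/
def eg (b : V ≃ₗ[F] V) (ε : F) : Submodule F V := LinearMap.ker ((b : V →ₗ[F] V) - ε • LinearMap.id)

theorem mem_eg {b : V ≃ₗ[F] V} {ε : F} {v : V} : v ∈ eg b ε ↔ b v = ε • v := by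
  rw [eg, LinearMap.mem_ker, LinearMap.sub_apply, sub_eq_zero]
  rfl

theorem fix_eq_eg (b : V ≃ₗ[F] V) : H890.SpParity.fix b = eg b 1 := by
  ext v
  rw [H890.SpParity.mem_fix, mem_eg, one_smul]

theorem exists_value_perp [Finite F] [FiniteDimensional F V] (hQ : Nondeg Q) (U : Submodule F V)
    (hU : 2 * finrank F U + 2 ≤ finrank F V) {c : F} (hc : c ≠ 0) : ∃ y ∈ perp Q U, Q y = c := by
  refine exists_value_mem ?_ c hc
  have h1 : finrank F ↥(perp Q U ⊓ perp Q (perp Q U)) ≤ finrank F U := by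
    rw [perp_perp hQ]
    exact Submodule.finrank_mono inf_le_right
  have hd := finrank_perp hQ U
  omega

theorem finrank_span_single_le (x : V) : finrank F (Submodule.span F ({x} : Set V)) ≤ 1 := by
  have h := finrank_span_le_card (R := F) ({x} : Set V)
  simpa using h

section Inv

variable {b : V ≃ₗ[F] V} {ε : F}

theorem perp_eg (h2 : (2 : F) ≠ 0) (hQ : Nondeg Q) (hb : b ∈ O Q) (hsq : ∀ v, b (b v) = v) (hε : ε * ε = 1) :
    perp Q (eg b ε) = eg b (-ε) := by
  have hmem : ∀ y : V, y + ε • b y ∈ eg b ε := by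
    intro y
    rw [mem_eg, map_add, map_smul, hsq, smul_add, smul_smul, hε, one_smul, add_comm]
  ext v
  constructor
  · intro hv
    have h0 : v + ε • b v = 0 := by
      apply hQ
      intro y
      have h1 := mem_perp'.1 hv _ (hmem y)
      rw [polar_add_right, polar_smul_right] at h1
      rw [polar_add_left, polar_smul_left, ← polar_map hb (b v) y, hsq]
      exact h1
    rw [mem_eg, neg_smul]
    have h3 : b v = ε • (ε • b v) := by rw [smul_smul, hε, one_smul]
    rw [h3, eq_neg_of_add_eq_zero_right h0, smul_neg]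
  · intro hv
    rw [mem_perp]
    intro w hw
    rw [mem_eg] at hv hw
    have h1 := polar_map hb w v
    rw [hv, hw, polar_smul_left, polar_smul_right, smul_eq_mul, smul_eq_mul] at h1
    have h3 : 2 * polar Q w v = 0 := by linear_combination -h1 - polar Q w v * hε
    exact (mul_eq_zero.1 h3).resolve_left h2

theorem nondegOn_eg (h2 : (2 : F) ≠ 0) (hQ : Nondeg Q) (hb : b ∈ O Q) (hsq : ∀ v, b (b v) = v) (hε : ε * ε = 1) :
    NondegOn Q (eg b ε) := by
  intro y hy hy'
  have h1 : y ∈ perp Q (eg b ε) := mem_perp'.2 hy'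
  rw [perp_eg h2 hQ hb hsq hε, mem_eg, mem_eg.1 hy, neg_smul] at h1
  have h3 : (2 * ε) • y = 0 := by
    have : (2 * ε) • y = ε • y - -(ε • y) := by module
    rw [this, ← h1, sub_self]
  have hε0 : ε ≠ 0 := by
    rintro rfl
    simp at hε
  exact (smul_eq_zero.1 h3).resolve_left (mul_ne_zero h2 hε0)

theorem finrank_eg [FiniteDimensional F V] (h2 : (2 : F) ≠ 0) (hQ : Nondeg Q) (hb : b ∈ O Q) (hsq : ∀ v, b (b v) = v)
    (hε : ε * ε = 1) : finrank F (eg b ε) + finrank F (eg b (-ε)) = finrank F V := by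
  rw [← perp_eg h2 hQ hb hsq hε]
  exact finrank_perp hQ _

theorem exists_value_eg [Finite F] [FiniteDimensional F V] (h2 : (2 : F) ≠ 0) (hQ : Nondeg Q) (hb : b ∈ O Q)
    (hsq : ∀ v, b (b v) = v) (hε : ε * ε = 1) (hd : 2 ≤ finrank F (eg b ε)) {c : F} (hc : c ≠ 0) :
    ∃ y ∈ eg b ε, Q y = c := by
  refine exists_value_mem ?_ c hc
  have h1 : eg b ε ⊓ perp Q (eg b ε) = ⊥ := by
    rw [Submodule.eq_bot_iff]
    intro y hy
    exact nondegOn_eg h2 hQ hb hsq hε y hy.1 (mem_perp'.1 hy.2)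
  rw [h1, finrank_bot]
  omega

theorem eg_ne_bot [FiniteDimensional F V] (h2 : (2 : F) ≠ 0) (hQ : Nondeg Q) (hb : b ∈ O Q) (hsq : ∀ v, b (b v) = v)
    (hε : ε * ε = 1) (hns : ∀ c : F, ∃ v, b v ≠ c • v) : 0 < finrank F (eg b ε) := by
  rw [Nat.pos_iff_ne_zero]
  intro h0
  rw [Submodule.finrank_eq_zero] at h0
  have h1 : eg b (-ε) = ⊤ := by
    rw [← perp_eg h2 hQ hb hsq hε, h0]
    rw [eq_top_iff]
    intro v _
    rw [mem_perp]
    intro w hw
    rw [(Submodule.mem_bot F).1 hw, polar_zero_left]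
  obtain ⟨v, hv⟩ := hns (-ε)
  have : v ∈ eg b (-ε) := by rw [h1]; trivial
  exact hv (mem_eg.1 this)

/-- the dimensions of the eigenspaces of an involution of `E Q` -/
theorem even_eg_neg [FiniteDimensional F V] (h2 : (2 : F) ≠ 0) (hQ : Nondeg Q) (hb : b ∈ E Q)
    (hsq : ∀ v, b (b v) = v) : Even (finrank F (eg b (-1))) := by
  have h1 := H890.SpParity.even_E hQ hb
  rw [fix_eq_eg] at h1
  have h3 := finrank_eg h2 hQ (E_le_O hb) hsq (ε := 1) (by ring)
  rw [Nat.even_iff] at *
  omega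

end Inv

section Struct

variable [Finite F] [FiniteDimensional F V]

/-- (4) -/
theorem inv_contra (h2 : (2 : F) ≠ 0) (hG : Good Q) (hd : 8 ≤ finrank F V) (hev : Even (finrank F V))
    {b : V ≃ₗ[F] V} (hb : b ∈ E Q) (hsq : ∀ v, b (b v) = v) (hns : ∀ c : F, ∃ v, b v ≠ c • v)
    (hP : NoP Q (b : V →ₗ[F] V))
    (hdisc : ∀ (z x y : V) (l : F), TS3 Q z x y → b z = l • z →
      (polar Q x (b y) + polar Q y (b x)) ^ 2 = 4 * polar Q x (b x) * polar Q y (b y)) : False := by
  have hbO := E_le_O hb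
  have hQ := hG.nondeg
  have hε1 : (1 : F) * 1 = 1 := by ring
  have hεm : (-1 : F) * (-1) = 1 := by ring
  -- one of the eigenspaces is anisotropic
  obtain ⟨ε, hε, hε', han⟩ : ∃ ε : F, ε * ε = 1 ∧ (ε = 1 ∨ ε = -1) ∧ ∀ v ∈ eg b ε, Q v = 0 → v = 0 := by
    by_contra hcon
    push Not at hcon
    obtain ⟨p, hp, hp0, hpn⟩ := hcon 1 hε1 (Or.inl rfl)
    obtain ⟨m, hm, hm0, hmn⟩ := hcon (-1) hεm (Or.inr rfl)
    have hpm : polar Q p m = 0 := by
      have h1 : m ∈ perp Q (eg b 1) := by rw [perp_eg h2 hQ hbO hsq hε1]; exact hm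
      exact mem_perp.1 h1 p hp
    rw [mem_eg] at hp hm
    have hbx : b (p + m) = p - m := by
      rw [map_add, hp, hm]
      module
    obtain ⟨c, hc⟩ := hP (p + m) (by rw [Q_add, hp0, hm0, hpm]; simp) (by
      show polar Q (p + m) (b (p + m)) = 0
      rw [hbx, polar_add_left, polar_sub_right, polar_sub_right, polar_self_of_sing hp0, polar_self_of_sing hm0,
        hpm, polar_comm Q m p, hpm]
      simp)
    have hc' : b (p + m) = c • (p + m) := hc
    rw [hbx] at hc'
    have h3 : b (p - m) = c • (p - m) := by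
      rw [hc', map_smul, hbx, hc']
    have h4 : b (p - m) = p + m := by
      rw [map_sub, hp, hm]
      module
    rw [h4] at h3
    -- p - m = c (p + m), p + m = c (p - m)
    have h5 : (2 * (1 - c)) • p = 0 := by
      have e : (2 * (1 - c)) • p = ((p - m) - c • (p + m)) + ((p + m) - c • (p - m)) := by module
      rw [e, ← hc', ← h3, sub_self, sub_self, add_zero]
    have hc1 : c = 1 := by
      rcases smul_eq_zero.1 h5 with h | h
      · exact (sub_eq_zero.1 ((mul_eq_zero.1 h).resolve_left h2)).symm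
      · exact absurd h hpn
    rw [hc1, one_smul] at hc'
    have h6 : (2 : F) • m = 0 := by
      have e : (2 : F) • m = (p + m) - (p - m) := by module
      rw [e, ← hc', sub_self]
    exact hmn ((smul_eq_zero.1 h6).resolve_left h2)
  set W := eg b ε with hW
  have hperp : perp Q W = eg b (-ε) := perp_eg h2 hQ hbO hsq hε
  have hdim := finrank_eg h2 hQ hbO hsq hε
  have hWpos := eg_ne_bot h2 hQ hbO hsq hε hns
  have hevn := even_eg_neg h2 hQ hb hsq
  have hWev : Even (finrank F W) := by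
    rcases hε' with rfl | rfl
    · rw [← hW] at hdim
      rw [Nat.even_iff] at *
      omega
    · exact hevn
  have hWle : finrank F W ≤ 2 := by
    by_contra hlt
    obtain ⟨w, hw, hw0, hQw⟩ := exists_sing_mem (Q := Q) W (by omega)
    exact hw0 (han w hw hQw)
  have hW2 : finrank F W = 2 := by
    rw [← hW] at hWpos
    rw [Nat.even_iff] at hWev
    omega
  -- vectors of `W`
  obtain ⟨e, he, he0⟩ := (Submodule.ne_bot_iff W).1 (by
    intro h
    rw [h, finrank_bot] at hW2
    omega)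
  have hQe : Q e ≠ 0 := fun h => he0 (han e he h)
  obtain ⟨f, hf, hf0⟩ := (Submodule.ne_bot_iff (W ⊓ LinearMap.ker (polarBilin Q e))).1 (by
    intro h
    have h1 := finrank_inf_polar (Q := Q) W e
    rw [h, finrank_bot] at h1
    omega)
  have hQf : Q f ≠ 0 := fun h => hf0 (han f hf.1 h)
  have hef : polar Q e f = 0 := hf.2
  -- vectors of `W^⊥`
  obtain ⟨x', hx', hQx'⟩ := exists_value_perp hQ W (by omega) (neg_ne_zero.2 hQe)
  have hU2 : finrank F ↥(W ⊔ Submodule.span F {x'}) ≤ 3 := by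
    have h1 := Submodule.finrank_add_le_finrank_add_finrank W (Submodule.span F {x'})
    have h3 : finrank F (Submodule.span F {x'}) ≤ 1 := finrank_span_single_le x'
    omega
  obtain ⟨y', hy', hQy'⟩ := exists_value_perp hQ (W ⊔ Submodule.span F {x'}) (by omega) (neg_ne_zero.2 hQf)
  have hU3 : finrank F ↥(W ⊔ Submodule.span F {x'} ⊔ Submodule.span F {y'}) ≤ 4 := by
    have h1 := Submodule.finrank_add_le_finrank_add_finrank (W ⊔ Submodule.span F {x'}) (Submodule.span F {y'})
    have h3 : finrank F (Submodule.span F {y'}) ≤ 1 := finrank_span_single_le y'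
    omega
  have hd3 := finrank_perp hQ (W ⊔ Submodule.span F {x'} ⊔ Submodule.span F {y'})
  obtain ⟨z, hz, hz0, hQz⟩ := exists_sing_mem (Q := Q) (perp Q (W ⊔ Submodule.span F {x'} ⊔ Submodule.span F {y'}))
    (by omega)
  have hyW : y' ∈ perp Q W := perp_anti le_sup_left hy'
  have hzW : z ∈ perp Q W := perp_anti (le_sup_left.trans le_sup_left) hz
  have hx'y' : polar Q x' y' = 0 :=
    mem_perp.1 hy' x' (Submodule.mem_sup_right (Submodule.mem_span_singleton_self x'))
  have hzx : polar Q z x' = 0 :=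
    mem_perp'.1 hz x' (Submodule.mem_sup_left (Submodule.mem_sup_right (Submodule.mem_span_singleton_self x')))
  have hzy : polar Q z y' = 0 :=
    mem_perp'.1 hz y' (Submodule.mem_sup_right (Submodule.mem_span_singleton_self y'))
  have hex : polar Q e x' = 0 := mem_perp.1 hx' e he
  have hey : polar Q e y' = 0 := mem_perp.1 hyW e he
  have hfx : polar Q f x' = 0 := mem_perp.1 hx' f hf.1
  have hfy : polar Q f y' = 0 := mem_perp.1 hyW f hf.1
  have hze : polar Q z e = 0 := mem_perp'.1 hzW e he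
  have hzf : polar Q z f = 0 := mem_perp'.1 hzW f hf.1
  have hbe : b e = ε • e := mem_eg.1 he
  have hbf : b f = ε • f := mem_eg.1 hf.1
  rw [hperp] at hx' hyW hzW
  have hbx : b x' = (-ε) • x' := mem_eg.1 hx'
  have hby : b y' = (-ε) • y' := mem_eg.1 hyW
  have hbz : b z = (-ε) • z := mem_eg.1 hzW
  have pee : polar Q e e = 2 * Q e := polar_self' e
  have pff : polar Q f f = 2 * Q f := polar_self' f
  have pxx : polar Q x' x' = 2 * Q x' := polar_self' x'
  have pyy : polar Q y' y' = 2 * Q y' := polar_self' y'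
  have hT : TS3 Q z (e + x') (f + y') := by
    refine ⟨?_, hQz, ?_, ?_, ?_, ?_, ?_⟩
    · intro α β γ h0
      have k1 : polar Q e (α • z + β • (e + x') + γ • (f + y')) = 0 := by rw [h0, polar_zero_right]
      have k2 : polar Q f (α • z + β • (e + x') + γ • (f + y')) = 0 := by rw [h0, polar_zero_right]
      simp only [polar_add_right, polar_smul_right, smul_eq_mul, polar_comm Q e z, polar_comm Q f z, hze, hzf, hex,
        hey, hfx, hfy, hef, polar_comm Q f e, pee, pff] at k1 k2
      have hβ : β = 0 := by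
        have : β * (2 * Q e) = 0 := by linear_combination k1
        exact (mul_eq_zero.1 this).resolve_right (mul_ne_zero h2 hQe)
      have hγ : γ = 0 := by
        have : γ * (2 * Q f) = 0 := by linear_combination k2
        exact (mul_eq_zero.1 this).resolve_right (mul_ne_zero h2 hQf)
      rw [hβ, hγ, zero_smul, zero_smul, add_zero, add_zero] at h0
      exact ⟨(smul_eq_zero.1 h0).resolve_right hz0, hβ, hγ⟩
    · rw [Q_add, hQx', hex]
      ring
    · rw [Q_add, hQy', hfy]
      ring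
    · rw [polar_add_right, hze, hzx, add_zero]
    · rw [polar_add_right, hzf, hzy, add_zero]
    · rw [polar_add_left, polar_add_right, polar_add_right, hef, hey, polar_comm Q x' f, hfx, hx'y']
      ring
  have h1 := hdisc z (e + x') (f + y') (-ε) hT hbz
  rw [map_add, map_add, hbe, hbf, hbx, hby] at h1
  simp only [polar_add_left, polar_add_right, polar_smul_right, smul_eq_mul, hef, hey, hex, hfx, hfy,
    polar_comm Q x' f, polar_comm Q x' e, polar_comm Q y' e, polar_comm Q y' f, polar_comm Q f e,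
    polar_comm Q y' x', hx'y', pee, pff, pxx, pyy, hQx', hQy'] at h1
  have h3 : (2 * 2 * 2 * 2 * 2 * 2 * (ε * ε)) * (Q e * Q f) = 0 := by linear_combination -h1
  rw [hε, mul_one] at h3
  rcases mul_eq_zero.1 h3 with h | h
  · exact (mul_ne_zero (mul_ne_zero (mul_ne_zero (mul_ne_zero (mul_ne_zero h2 h2) h2) h2) h2) h2) h
  · exact (mul_ne_zero hQe hQf) h

/-- the case `NoP Q b`, `¬ NoN Q a` -/
theorem struct_aux (h2 : (2 : F) ≠ 0) (hG : Good Q) (hd : 8 ≤ finrank F V) (hev : Even (finrank F V))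
    {a : V →ₗ[F] V} {b : V ≃ₗ[F] V} (hb : b ∈ E Q) (hnsb : ∀ c : F, ∃ v, b v ≠ c • v)
    (hW : Weak Q a (b : V →ₗ[F] V)) (ha : ¬ NoN Q a) (hP : NoP Q (b : V →ₗ[F] V)) : False := by
  have hbO := E_le_O hb
  have h1 : ∀ u v, TS2 Q u v → polar Q v (b u) = polar Q u (b v) := fun u v huv =>
    symm_of_NoP h2 hG (by omega) hbO hW ha hP huv
  have hsq := sq_of_symm h2 hG hbO h1
  exact inv_contra h2 hG hd hev hb hsq hnsb hP fun z x y l hT hl => disc_zero hG (by omega) hbO hW ha hT hl

/-- **The structure theorem.** -/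
theorem odd_struct (h2 : (2 : F) ≠ 0) (hG : Good Q) (hd : 8 ≤ finrank F V) (hev : Even (finrank F V))
    {a b : V ≃ₗ[F] V} (ha : a ∈ E Q) (hb : b ∈ E Q) (hnsa : ∀ c : F, ∃ v, a v ≠ c • v)
    (hnsb : ∀ c : F, ∃ v, b v ≠ c • v) (hW : Weak Q (a : V →ₗ[F] V) (b : V →ₗ[F] V)) :
    (NoN Q (a : V →ₗ[F] V) ∧ ∀ v, b (b v) = v) ∨ (NoN Q (b : V →ₗ[F] V) ∧ ∀ v, a (a v) = v) := by
  by_cases hNa : NoN Q (a : V →ₗ[F] V)
  · exact Or.inl ⟨hNa, sq_of_symm h2 hG (E_le_O hb) fun u v huv => symm_of_NoN hG (by omega) hW hNa hnsa huv⟩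
  by_cases hNb : NoN Q (b : V →ₗ[F] V)
  · exact Or.inr ⟨hNb, sq_of_symm h2 hG (E_le_O ha) fun u v huv => symm_of_NoN hG (by omega) hW.symm hNb hnsb huv⟩
  exfalso
  by_cases hPb : NoP Q (b : V →ₗ[F] V)
  · exact struct_aux h2 hG hd hev hb hnsb hW hNa hPb
  · have hPa := NoP_of_P h2 hG (by omega) hW.symm hNb hNa hPb
    exact struct_aux h2 hG hd hev ha hnsa hW.symm hNb hPa

end Struct

end Cfsg.Agent.H445.AH
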