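import Cfsg.Agent.H445.AH.OTrans

/-!
# S2451 (C), orthogonal groups: the trace identities (helper445)

`rt Q u v = (x ↦ B(u,x) v - B(v,x) u)`; for a totally singular pair `u`, `v` the element `h = 1 + rt Q u v` is in `E Q`,
and `tr (a h b h⁻¹)` is a quadratic polynomial in `v`.

* `NZ` : a quadratic polynomial in two variables with values in `{n, -n}` (odd characteristic) has discriminant zero;
* `weak_id`, `const12`, `const1` : the resulting identities for totally singular triples and pairs.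
-/

set_option autoImplicit false
set_option linter.unusedSectionVars false

namespace Cfsg.Agent.H445.AH

open QuadraticMap Cfsg.Agent.LieClassical.OrthCore Cfsg.Agent.LieClassical.OrthTrans
  Cfsg.Agent.LieClassical.OrthFinite Cfsg.Agent.H883.Sub Module

variable {F V : Type*} [Field F] [AddCommGroup V] [Module F V] {Q : QuadraticForm F V}

/-! ### Quadratic polynomials -/

theorem exists_zero_of_lead [Finite F] (h2 : (2 : F) ≠ 0) {c a1 a2 d1 d12 d2 : F} (h1 : d1 ≠ 0)
    (hD : d12 ^ 2 ≠ 4 * d1 * d2) : ∃ s t : F, c + a1 * s + a2 * t - (d1 * s ^ 2 + d12 * s * t + d2 * t ^ 2) = 0 := by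
  have := Fintype.ofFinite F
  have hodd : Fintype.card F % 2 = 1 := by
    refine FiniteField.odd_card_of_char_ne_two ?_
    intro h
    apply h2
    have : CharP F 2 := by rw [← h]; exact ringChar.charP F
    exact CharTwo.two_eq_zero
  have h4 : (2 * d1) ≠ 0 := mul_ne_zero h2 h1
  obtain ⟨m, hm⟩ : ∃ m : F, d12 = 2 * d1 * m := ⟨d12 / (2 * d1), by field_simp⟩
  subst hm
  have hl : -(d2 - d1 * m ^ 2) ≠ 0 := by
    intro h
    apply hD
    linear_combination 4 * d1 * h
  obtain ⟨x, y, h⟩ := FiniteField.exists_root_sum_quadratic (R := F)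
    (f := Polynomial.C (-d1) * Polynomial.X ^ 2 + Polynomial.C a1 * Polynomial.X + Polynomial.C c)
    (g := Polynomial.C (-(d2 - d1 * m ^ 2)) * Polynomial.X ^ 2 +
      Polynomial.C (a2 - a1 * m) * Polynomial.X + Polynomial.C 0)
    (Polynomial.degree_quadratic (neg_ne_zero.2 h1)) (Polynomial.degree_quadratic hl) hodd
  refine ⟨x - m * y, y, ?_⟩
  simp only [Polynomial.eval_add, Polynomial.eval_mul, Polynomial.eval_C, Polynomial.eval_pow,
    Polynomial.eval_X] at h
  rw [← h]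
  ring

/-- **Quadratic polynomials with at most two opposite values.** -/
theorem NZ [Finite F] (h2 : (2 : F) ≠ 0) {c a1 a2 d1 d12 d2 n : F}
    (h : ∀ s t : F, c + a1 * s + a2 * t - (d1 * s ^ 2 + d12 * s * t + d2 * t ^ 2) = n ∨
      c + a1 * s + a2 * t - (d1 * s ^ 2 + d12 * s * t + d2 * t ^ 2) = -n) : d12 ^ 2 = 4 * d1 * d2 := by
  by_cases hn : n = 0
  · subst hn
    have h0 : ∀ s t : F, c + a1 * s + a2 * t - (d1 * s ^ 2 + d12 * s * t + d2 * t ^ 2) = 0 := by
      intro s t
      rcases h s t with h | h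
      · exact h
      · rw [h, neg_zero]
    have e0 := h0 0 0
    have e1 := h0 1 0
    have e2 := h0 (-1) 0
    have e3 := h0 0 1
    have e4 := h0 0 (-1)
    have e5 := h0 1 1
    have hd1 : d1 = 0 := by
      have : 2 * d1 = 0 := by linear_combination -e1 - e2 + 2 * e0
      exact (mul_eq_zero.1 this).resolve_left h2
    have hd2 : d2 = 0 := by
      have : 2 * d2 = 0 := by linear_combination -e3 - e4 + 2 * e0
      exact (mul_eq_zero.1 this).resolve_left h2
    have hd12 : d12 = 0 := by linear_combination -e5 + e1 + e3 - e0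
    rw [hd1, hd2, hd12]
    ring
  · by_contra hD
    have h0 : ∀ s t : F, c + a1 * s + a2 * t - (d1 * s ^ 2 + d12 * s * t + d2 * t ^ 2) ≠ 0 := by
      intro s t h'
      rcases h s t with h | h
      · exact hn (h.symm.trans h')
      · exact hn (neg_eq_zero.1 (h.symm.trans h'))
    by_cases h1 : d1 = 0
    · by_cases h3 : d2 = 0
      · have h12 : d12 ≠ 0 := by
          intro h12
          apply hD
          rw [h12, h1]
          ring
        refine h0 ((a2 - 1) / d12) (-(c + a1 * ((a2 - 1) / d12))) ?_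
        rw [h1, h3]
        have e : d12 * ((a2 - 1) / d12) = a2 - 1 := by field_simp
        linear_combination (c + a1 * ((a2 - 1) / d12)) * e
      · obtain ⟨s, t, hst⟩ := exists_zero_of_lead h2 (c := c) (a1 := a2) (a2 := a1) (d1 := d2) (d12 := d12)
          (d2 := d1) h3 (by intro h; apply hD; linear_combination h)
        refine h0 t s ?_
        linear_combination hst
    · obtain ⟨s, t, hst⟩ := exists_zero_of_lead h2 (c := c) (a1 := a1) (a2 := a2) h1 hD
      exact h0 s t hst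

/-! ### Root elements -/

/-- `x ↦ B(u,x) v - B(v,x) u` -/
def rt (Q : QuadraticForm F V) (u v : V) : V →ₗ[F] V :=
  (polarBilin Q u).smulRight v - (polarBilin Q v).smulRight u

theorem rt_apply (u v x : V) : rt Q u v x = polar Q u x • v - polar Q v x • u := rfl

theorem siegel_eq {u v : V} (hu : Q u = 0) (hv : Q v = 0) (huv : polar Q u v = 0) :
    ((siegel Q u v hu huv : V ≃ₗ[F] V) : V →ₗ[F] V) = LinearMap.id + rt Q u v := by
  ext x
  show siegel Q u v hu huv x = _
  rw [siegel_apply, hv, LinearMap.add_apply, rt_apply]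
  simp
  module

theorem siegel_inv_eq {u v : V} (hu : Q u = 0) (hv : Q v = 0) (huv : polar Q u v = 0) :
    (((siegel Q u v hu huv)⁻¹ : V ≃ₗ[F] V) : V →ₗ[F] V) = LinearMap.id - rt Q u v := by
  have hw' : polar Q u (-v) = 0 := by rw [polar_neg_right, huv, neg_zero]
  rw [siegel_inv hu huv hw', siegel_eq hu (by rw [QuadraticMap.map_neg, hv]) hw']
  ext x
  rw [LinearMap.add_apply, LinearMap.sub_apply, rt_apply, rt_apply, polar_neg_left]
  module

/-- the linear part -/
def Lf (Q : QuadraticForm F V) (a b : V →ₗ[F] V) (u v : V) : F :=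
  polar Q u (b (a v)) - polar Q v (b (a u)) - polar Q u (a (b v)) + polar Q v (a (b u))

/-- the quadratic part -/
def Dm (Q : QuadraticForm F V) (a : V →ₗ[F] V) (u v : V) (b : V →ₗ[F] V) (x y : V) : F :=
  polar Q x (b y) * polar Q u (a v) - polar Q y (b y) * polar Q u (a u) -
    polar Q x (b x) * polar Q v (a v) + polar Q y (b x) * polar Q v (a u)

/-- the polar form of the quadratic part -/
def D12 (Q : QuadraticForm F V) (a : V →ₗ[F] V) (u v w : V) (b : V →ₗ[F] V) (x y z : V) : F :=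
  polar Q x (b y) * polar Q u (a w) + polar Q x (b z) * polar Q u (a v) -
    (polar Q y (b z) + polar Q z (b y)) * polar Q u (a u) -
    polar Q x (b x) * (polar Q v (a w) + polar Q w (a v)) +
    polar Q y (b x) * polar Q w (a u) + polar Q z (b x) * polar Q v (a u)

theorem trace_root [FiniteDimensional F V] (a b : V →ₗ[F] V) (u v : V) :
    LinearMap.trace F V (a ∘ₗ (LinearMap.id + rt Q u v) ∘ₗ b ∘ₗ (LinearMap.id - rt Q u v)) =
      LinearMap.trace F V (a ∘ₗ b) + Lf Q a b u v - Dm Q a u v b u v := by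
  have e : a ∘ₗ (LinearMap.id + rt Q u v) ∘ₗ b ∘ₗ (LinearMap.id - rt Q u v) =
      a ∘ₗ b + (((polarBilin Q u) ∘ₗ b).smulRight (a v) - ((polarBilin Q v) ∘ₗ b).smulRight (a u)) -
        ((polarBilin Q u).smulRight (a (b v)) - (polarBilin Q v).smulRight (a (b u))) -
        ((polarBilin Q u).smulRight (a (rt Q u v (b v))) - (polarBilin Q v).smulRight (a (rt Q u v (b u)))) := by
    ext x
    simp only [LinearMap.comp_apply, LinearMap.add_apply, LinearMap.sub_apply, LinearMap.id_apply,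
      LinearMap.smulRight_apply, rt_apply, map_add, map_sub, map_smul, polarBilin_apply_apply, smul_sub]
    module
  rw [e]
  simp only [map_sub, map_add, LinearMap.trace_smulRight, LinearMap.comp_apply, polarBilin_apply_apply]
  simp only [rt_apply, map_sub, map_smul, polar_sub_right, polar_smul_right, smul_eq_mul, Lf, Dm]
  ring

theorem Lf_comb (a b : V →ₗ[F] V) (u v w : V) (s t : F) :
    Lf Q a b u (s • v + t • w) = s * Lf Q a b u v + t * Lf Q a b u w := by
  simp only [Lf, map_add, map_smul, polar_add_right, polar_smul_right, polar_add_left, polar_smul_left,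
    smul_eq_mul]
  ring

theorem Dm_comb (a b : V →ₗ[F] V) (u v w : V) (s t : F) :
    Dm Q a u (s • v + t • w) b u (s • v + t • w) =
      Dm Q a u v b u v * s ^ 2 + D12 Q a u v w b u v w * s * t + Dm Q a u w b u w * t ^ 2 := by
  simp only [Dm, D12, map_add, map_smul, polar_add_right, polar_smul_right, polar_add_left, polar_smul_left,
    smul_eq_mul]
  ring

/-- the trace of `a b` -/
noncomputable def tr2 (a b : V ≃ₗ[F] V) : F := LinearMap.trace F V ((a : V →ₗ[F] V) ∘ₗ (b : V →ₗ[F] V))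

theorem tr2_root [FiniteDimensional F V] (a b : V ≃ₗ[F] V) {u v : V} (hu : Q u = 0) (hv : Q v = 0)
    (huv : polar Q u v = 0) :
    tr2 a (siegel Q u v hu huv * b * (siegel Q u v hu huv)⁻¹) =
      tr2 a b + Lf Q (a : V →ₗ[F] V) b u v - Dm Q (a : V →ₗ[F] V) u v b u v := by
  rw [tr2, tr2, ← trace_root]
  congr 1
  rw [← siegel_eq hu hv huv, ← siegel_inv_eq hu hv huv]
  rfl

/-! ### The identities -/

theorem polar_conj {g : V ≃ₗ[F] V} (hg : g ∈ O Q) (b : V ≃ₗ[F] V) (x y : V) :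
    polar Q (g x) ((g * b * g⁻¹) (g y)) = polar Q x (b y) := by
  have e : (g * b * g⁻¹) (g y) = g (b y) := by
    show g (b (g.symm (g y))) = _
    rw [LinearEquiv.symm_apply_apply]
  rw [e, polar_map hg]

section Ids

variable [FiniteDimensional F V] {a b : V ≃ₗ[F] V}

theorem tr2_sing {n m : F} (hT : ∀ g ∈ E Q, tr2 a (g * b * g⁻¹) = n ∨ tr2 a (g * b * g⁻¹) = m) {g : V ≃ₗ[F] V}
    (hg : g ∈ E Q) {u v w : V} (h : TS3 Q u v w) (s t : F) :
    let b' := g * b * g⁻¹
    let f := tr2 a b' + Lf Q (a : V →ₗ[F] V) b' u v * s + Lf Q (a : V →ₗ[F] V) b' u w * t -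
      (Dm Q (a : V →ₗ[F] V) u v b' u v * s ^ 2 + D12 Q (a : V →ₗ[F] V) u v w b' u v w * s * t +
        Dm Q (a : V →ₗ[F] V) u w b' u w * t ^ 2)
    f = n ∨ f = m := by
  intro b' f
  have hw0 : Q (s • v + t • w) = 0 := by
    rw [Q_add, QuadraticMap.map_smul, QuadraticMap.map_smul, polar_smul_left, polar_smul_right, h.hv, h.hw, h.hvw]
    simp
  have huw0 : polar Q u (s • v + t • w) = 0 := by
    rw [polar_add_right, polar_smul_right, polar_smul_right, h.huv, h.huw]
    simp
  have h1 := tr2_root a b' h.hu hw0 huw0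
  rw [Lf_comb, Dm_comb] at h1
  have e : siegel Q u (s • v + t • w) h.hu huw0 * b' * (siegel Q u (s • v + t • w) h.hu huw0)⁻¹ =
      (siegel Q u (s • v + t • w) h.hu huw0 * g) * b * (siegel Q u (s • v + t • w) h.hu huw0 * g)⁻¹ := by
    simp only [b']
    group
  rw [e] at h1
  have h2 := hT _ (E_mul (siegel_mem_E h.hu huw0) hg)
  rw [h1] at h2
  have e2 : f = tr2 a b' + (s * Lf Q (a : V →ₗ[F] V) b' u v + t * Lf Q (a : V →ₗ[F] V) b' u w) -
      (Dm Q (a : V →ₗ[F] V) u v b' u v * s ^ 2 + D12 Q (a : V →ₗ[F] V) u v w b' u v w * s * t +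
        Dm Q (a : V →ₗ[F] V) u w b' u w * t ^ 2) := by
    simp only [f]
    ring
  rw [e2]
  exact h2

/-- **The weak identity** (odd characteristic). -/
theorem weak_id [Finite F] (h2 : (2 : F) ≠ 0) (hG : Good Q) (hd : 8 ≤ finrank F V) {n : F}
    (hT : ∀ g ∈ E Q, tr2 a (g * b * g⁻¹) = n ∨ tr2 a (g * b * g⁻¹) = -n) {u v w x y z : V}
    (h : TS3 Q u v w) (h' : TS3 Q x y z) :
    D12 Q (a : V →ₗ[F] V) u v w (b : V →ₗ[F] V) x y z ^ 2 =
      4 * Dm Q (a : V →ₗ[F] V) u v (b : V →ₗ[F] V) x y * Dm Q (a : V →ₗ[F] V) u w (b : V →ₗ[F] V) x z := by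
  obtain ⟨g, hg, rfl, rfl, rfl⟩ := trans3 hG hd h' h
  have hgO := E_le_O hg
  have h3 := NZ h2 (fun s t => tr2_sing hT hg h s t)
  have e : ∀ p q : V, polar Q (g p) (((g * b * g⁻¹ : V ≃ₗ[F] V) : V →ₗ[F] V) (g q)) =
      polar Q p ((b : V →ₗ[F] V) q) := fun p q => polar_conj hgO b p q
  simp only [Dm, D12, e] at h3 ⊢
  exact h3

/-- **Constant trace**: the polar identity. -/
theorem const12 [Finite F] (hG : Good Q) (hd : 8 ≤ finrank F V) {n : F}
    (hT : ∀ g ∈ E Q, tr2 a (g * b * g⁻¹) = n) {u v w x y z : V}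
    (h : TS3 Q u v w) (h' : TS3 Q x y z) :
    D12 Q (a : V →ₗ[F] V) u v w (b : V →ₗ[F] V) x y z = 0 := by
  obtain ⟨g, hg, rfl, rfl, rfl⟩ := trans3 hG hd h' h
  have hgO := E_le_O hg
  have h3 := fun s t => tr2_sing (m := n) (fun g hg => Or.inl (hT g hg)) hg h s t
  simp only [or_self] at h3
  have e : ∀ p q : V, polar Q (g p) (((g * b * g⁻¹ : V ≃ₗ[F] V) : V →ₗ[F] V) (g q)) =
      polar Q p ((b : V →ₗ[F] V) q) := fun p q => polar_conj hgO b p q
  have h4 : D12 Q (a : V →ₗ[F] V) (g x) (g y) (g z) ((g * b * g⁻¹ : V ≃ₗ[F] V) : V →ₗ[F] V) (g x) (g y) (g z) = 0 := by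
    linear_combination -(h3 1 1) + h3 1 0 + h3 0 1 - h3 0 0
  simp only [D12, e] at h4 ⊢
  exact h4

/-- **Constant trace**, odd characteristic: the identity for pairs. -/
theorem const1 [Finite F] (h2 : (2 : F) ≠ 0) (hG : Good Q) (hd : 6 ≤ finrank F V) {n : F}
    (hT : ∀ g ∈ E Q, tr2 a (g * b * g⁻¹) = n) {u v x y : V}
    (h : TS2 Q u v) (h' : TS2 Q x y) :
    Dm Q (a : V →ₗ[F] V) u v (b : V →ₗ[F] V) x y = 0 := by
  obtain ⟨g, hg, rfl, rfl⟩ := trans2 hG hd h' h
  have hgO := E_le_O hg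
  have e : ∀ p q : V, polar Q (g p) (((g * b * g⁻¹ : V ≃ₗ[F] V) : V →ₗ[F] V) (g q)) =
      polar Q p ((b : V →ₗ[F] V) q) := fun p q => polar_conj hgO b p q
  have h3 : ∀ s : F, tr2 a (g * b * g⁻¹) +
      s * Lf Q (a : V →ₗ[F] V) ((g * b * g⁻¹ : V ≃ₗ[F] V) : V →ₗ[F] V) (g x) (g y) -
      s ^ 2 * Dm Q (a : V →ₗ[F] V) (g x) (g y) ((g * b * g⁻¹ : V ≃ₗ[F] V) : V →ₗ[F] V) (g x) (g y) = n := by
    intro s
    have hw0 : Q (s • g y) = 0 := by rw [QuadraticMap.map_smul, h.hv, smul_zero]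
    have huw0 : polar Q (g x) (s • g y) = 0 := by rw [polar_smul_right, h.huv, smul_zero]
    have h1 := tr2_root a (g * b * g⁻¹) h.hu hw0 huw0
    have e1 : siegel Q (g x) (s • g y) h.hu huw0 * (g * b * g⁻¹) * (siegel Q (g x) (s • g y) h.hu huw0)⁻¹ =
        (siegel Q (g x) (s • g y) h.hu huw0 * g) * b * (siegel Q (g x) (s • g y) h.hu huw0 * g)⁻¹ := by
      group
    rw [e1, hT _ (E_mul (siegel_mem_E h.hu huw0) hg)] at h1
    rw [h1]
    simp only [Lf, Dm, map_smul, polar_smul_right, polar_smul_left, smul_eq_mul]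
    ring
  have h4 : 2 * Dm Q (a : V →ₗ[F] V) (g x) (g y) ((g * b * g⁻¹ : V ≃ₗ[F] V) : V →ₗ[F] V) (g x) (g y) = 0 := by
    linear_combination -(h3 1) - h3 (-1) + 2 * h3 0
  have h5 := (mul_eq_zero.1 h4).resolve_left h2
  simp only [Dm, e] at h5 ⊢
  exact h5

end Ids

end Cfsg.Agent.H445.AH
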