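import Cfsg.Agent.H445.AH.OFin

/-!
# S2451 (C), orthogonal groups in characteristic two (helper445)

* `sigma_two` : `B(x, b z) + B(z, b x) = 0` for all totally singular pairs; `kappa_two` : `b + b⁻¹` is a scalar;
* `exists_P_two` : some singular point is moved to a perpendicular one;
* `even_two` : contradiction in even dimension `≥ 8`.
-/

set_option autoImplicit false
set_option linter.unusedSectionVars false

namespace Cfsg.Agent.H445.AH

open QuadraticMap Cfsg.Agent.LieClassical.OrthCore Cfsg.Agent.LieClassical.OrthTrans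
  Cfsg.Agent.LieClassical.OrthFinite Cfsg.Agent.H883.Sub Module

variable {F V : Type*} [Field F] [AddCommGroup V] [Module F V] {Q : QuadraticForm F V}

section Two

variable [Finite F] [FiniteDimensional F V]

/-- the identity for constant trace -/
def Zero12 (Q : QuadraticForm F V) (a b : V →ₗ[F] V) : Prop :=
  ∀ u v w x y z : V, TS3 Q u v w → TS3 Q x y z → D12 Q a u v w b x y z = 0

theorem Zero12.symm {a b : V →ₗ[F] V} (h : Zero12 Q a b) : Zero12 Q b a := by
  intro u v w x y z h1 h2
  have e1 : D12 Q b u v w a x y z = D12 Q a x y z b u v w := by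
    unfold D12
    ring
  rw [e1]
  exact h x y z u v w h2 h1

variable {a b : V →ₗ[F] V}

theorem Zero12.mix (hQ : Nondeg Q) (hd : 7 ≤ finrank F V) (h : Zero12 Q a b) {u v x y : V} (huv : TS2 Q u v)
    (hxy : TS2 Q x y) : polar Q x (b x) * (polar Q u (a v) + polar Q v (a u)) =
      polar Q u (a u) * (polar Q x (b y) + polar Q y (b x)) := by
  obtain ⟨w, hw⟩ := huv.extend hQ hd
  obtain ⟨z, hz⟩ := hxy.extend hQ hd
  have h1 := h u v w x y z hw hz
  have hz' := hz.add_third 1 0
  rw [zero_smul, add_zero] at hz'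
  have h3 := h u v w x y _ hw hz'
  unfold D12 at h1 h3
  simp only [map_add, map_smul, polar_add_left, polar_add_right, polar_smul_left, polar_smul_right,
    smul_eq_mul] at h3
  linear_combination h3 - h1

theorem Zero12.prod (hQ : Nondeg Q) (hd : 7 ≤ finrank F V) (h : Zero12 Q a b) {u x y : V} (hu : Q u = 0)
    (hxy : TS2 Q x y) : polar Q u (a u) * (polar Q x (b y) + polar Q y (b x)) = 0 := by
  by_cases hu0 : u = 0
  · rw [hu0, polar_zero_left, zero_mul]
  obtain ⟨v, huv⟩ := exists_TS2 hQ (by omega) hu hu0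
  obtain ⟨z, hz⟩ := hxy.extend hQ hd
  have hyz := (hz.add_second 0 1).left
  rw [zero_smul, add_zero, one_smul] at hyz
  have k2 := h.mix hQ hd huv hz.outer
  have k3 := h.mix hQ hd huv hyz
  simp only [map_add, polar_add_left, polar_add_right] at k3
  linear_combination k2 - k3

theorem sigma_two (h2 : (2 : F) = 0) (hG : Good Q) (hd : 7 ≤ finrank F V) (h : Zero12 Q a b)
    (hns : ∀ c : F, ∃ v, a v ≠ c • v) {x z : V} (hxz : TS2 Q x z) :
    polar Q x (b z) + polar Q z (b x) = 0 := by
  by_cases ha : NoN Q a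
  · obtain ⟨u, v, huv, hv⟩ := exists_P_of_NoN hG hns
    obtain ⟨w, hw, hw0⟩ := extend_perp hG.nondeg hd huv hv
    obtain ⟨y, hy⟩ := hxz.extend hG.nondeg hd
    have h1 := h u v w x y z hw hy.swap23
    have e1 := ha.skew hw.left
    have e2 := ha.skew hw.outer
    have e3 := ha.skew hw.right
    have e4 := ha u hw.hu
    rw [hw0, add_zero] at e2
    unfold D12 at h1
    rw [e2, e3, e4, hw0] at h1
    have h3 : polar Q v (a u) * (polar Q x (b z) + polar Q z (b x)) = 0 := by
      linear_combination h1 - (polar Q x (b z)) * e1 + (polar Q x (b z)) * polar Q v (a u) * h2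
    exact (mul_eq_zero.1 h3).resolve_left hv
  · unfold NoN at ha
    push Not at ha
    obtain ⟨u, hu, huu⟩ := ha
    exact (mul_eq_zero.1 (h.prod hG.nondeg hd hu hxz)).resolve_left huu

theorem kappa_two (hG : Good Q) {b : V ≃ₗ[F] V} (hb : b ∈ O Q)
    (h : ∀ x z, TS2 Q x z → polar Q x (b z) + polar Q z (b x) = 0) : ∃ κ : F, ∀ v, b v + b⁻¹ v = κ • v := by
  obtain ⟨c, hc⟩ := scalar_of_TS2 hG (n := (b : V →ₗ[F] V) + ((b⁻¹ : V ≃ₗ[F] V) : V →ₗ[F] V)) (by
    intro u v huv
    show polar Q v (b u + b⁻¹ u) = 0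
    rw [polar_add_right, polar_inv hb, polar_comm Q (b v) u, add_comm]
    exact h u v huv)
  exact ⟨c, hc⟩

/-- **A vector moved to a perpendicular one.** -/
theorem exists_P_two (h2 : (2 : F) = 0) (hG : Good Q) (hd : 8 ≤ finrank F V) (hev : Even (finrank F V))
    {b : V ≃ₗ[F] V} (hb : b ∈ E Q) (hns : ∀ c : F, ∃ v, b v ≠ c • v) {κ : F} (hκ : ∀ v, b v + b⁻¹ v = κ • v) :
    ∃ u, Q u = 0 ∧ polar Q u (b u) = 0 ∧ ∀ c : F, b u ≠ c • u := by
  by_contra hcon
  push Not at hcon
  have hQ := hG.nondeg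
  have hbO := E_le_O hb
  have hch : CharP F 2 := CharTwo.of_one_ne_zero_of_two_eq_zero one_ne_zero h2
  have hsqrt : ∀ c : F, ∃ r : F, r * r = c := by
    intro c
    have := Fintype.ofFinite F
    obtain ⟨r, hr⟩ := FiniteField.isSquare_of_char_two (ringChar.eq_iff.2 hch) c
    exact ⟨r, hr.symm⟩
  let θ : V → F := fun v => polar Q v (b v) - κ * Q v
  have hθ : ∀ v, θ v = polar Q v (b v) - κ * Q v := fun v => rfl
  have hadd : ∀ u v, θ (u + v) = θ u + θ v := by
    intro u v
    have h1 := polar_kappa hbO hκ u v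
    rw [hθ, hθ, hθ, map_add, polar_add_left, polar_add_right, polar_add_right, Q_add]
    rw [polar_comm Q (b u) v] at h1
    linear_combination h1
  have hsm : ∀ (c : F) (v : V), θ (c • v) = c * c * θ v := by
    intro c v
    rw [hθ, hθ, map_smul, polar_smul_left, polar_smul_right, QuadraticMap.map_smul]
    simp only [smul_eq_mul]
    ring
  let W : Submodule F V :=
    { carrier := {v | θ v = 0}
      add_mem' := by
        intro u v hu hv
        rw [Set.mem_ofPred_eq] at hu hv ⊢
        rw [hadd, hu, hv, add_zero]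
      zero_mem' := by
        rw [Set.mem_ofPred_eq, hθ]
        simp
      smul_mem' := by
        intro c v hv
        rw [Set.mem_ofPred_eq] at hv ⊢
        rw [hsm, hv, mul_zero] }
  have hmem : ∀ v, v ∈ W ↔ θ v = 0 := fun v => Iff.rfl
  have hWd : finrank F V ≤ finrank F W + 1 := by
    by_cases hall : ∀ v, θ v = 0
    · have : W = ⊤ := by
        rw [eq_top_iff]
        intro v _
        exact (hmem v).2 (hall v)
      rw [this, finrank_top]
      omega
    · push Not at hall
      obtain ⟨v1, hv1⟩ := hall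
      have htop : W ⊔ Submodule.span F {v1} = ⊤ := by
        rw [eq_top_iff]
        intro v _
        obtain ⟨r, hr⟩ := hsqrt (θ v * (θ v1)⁻¹)
        have h3 : v + r • v1 ∈ W := by
          rw [hmem, hadd, hsm, hr, mul_assoc, inv_mul_cancel₀ hv1, mul_one]
          linear_combination (θ v) * h2
        have e : v = (v + r • v1) + (-r) • v1 := by module
        rw [e]
        exact Submodule.add_mem_sup h3 (Submodule.smul_mem _ _ (Submodule.mem_span_singleton_self v1))
      have h1 := Submodule.finrank_add_le_finrank_add_finrank W (Submodule.span F {v1})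
      have h3 := finrank_span_single_le (F := F) v1
      rw [htop, finrank_top] at h1
      omega
  -- singular vectors of `W` are eigenvectors
  have heig : ∀ x ∈ W, Q x = 0 → ∃ c : F, b x = c • x := by
    intro x hx hQx
    refine hcon x hQx ?_
    have h1 := (hmem x).1 hx
    rw [hθ, hQx, mul_zero, sub_zero] at h1
    exact h1
  have hcmp : ∀ x ∈ W, ∀ y ∈ W, ∀ c d : F, Q x = 0 → Q y = 0 → polar Q x y = 0 →
      (∀ α β : F, α • x + β • y = 0 → α = 0 ∧ β = 0) → b x = c • x → b y = d • y → c = d := by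
    intro x hx y hy c d hQx hQy hxy hind hc hd'
    obtain ⟨e, he⟩ := heig (x + y) (W.add_mem hx hy) (by rw [Q_add, hQx, hQy, hxy]; simp)
    rw [map_add, hc, hd'] at he
    have h3 : (c - e) • x + (d - e) • y = 0 := by
      have : (c - e) • x + (d - e) • y = (c • x + d • y) - e • (x + y) := by module
      rw [this, he, sub_self]
    obtain ⟨k1, k2⟩ := hind _ _ h3
    linear_combination k1 - k2
  have hcmp2 : ∀ x ∈ W, ∀ y ∈ W, ∀ c d : F, Q x = 0 → Q y = 0 → x ≠ 0 → y ≠ 0 → b x = c • x → b y = d • y →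
      c = d := by
    intro x hx y hy c d hQx hQy hx0 hy0 hc hd'
    set Y := W ⊓ LinearMap.ker (polarBilin Q x) ⊓ LinearMap.ker (polarBilin Q y) with hY
    have k1 := finrank_inf_polar (Q := Q) W x
    have k2 := finrank_inf_polar (Q := Q) (W ⊓ LinearMap.ker (polarBilin Q x)) y
    rw [← hY] at k2
    have k3 : finrank F ↥(Y ⊓ (Submodule.span F {x} ⊔ Submodule.span F {y})) ≤ 2 := by
      have l1 : finrank F ↥(Y ⊓ (Submodule.span F {x} ⊔ Submodule.span F {y})) ≤
          finrank F ↥(Submodule.span F {x} ⊔ Submodule.span F {y}) := Submodule.finrank_mono inf_le_right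
      have l2 := Submodule.finrank_add_le_finrank_add_finrank (Submodule.span F {x}) (Submodule.span F {y})
      have l3 := finrank_span_single_le (F := F) x
      have l4 := finrank_span_single_le (F := F) y
      omega
    obtain ⟨z, hz, hzU, hQz⟩ := exists_compl_sing (Q := Q) Y (Submodule.span F {x} ⊔ Submodule.span F {y}) (by omega)
    have hxz : polar Q x z = 0 := hz.1.2
    have hyz : polar Q y z = 0 := hz.2
    have hzW : z ∈ W := hz.1.1
    obtain ⟨e, he⟩ := heig z hzW hQz
    have hind : ∀ t : V, t ≠ 0 → (∀ r : F, z ≠ r • t) → ∀ α β : F, α • t + β • z = 0 → α = 0 ∧ β = 0 := by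
      intro t ht hzt α β h0
      have hβ : β = 0 := by
        by_contra hβ
        apply hzt (-(β⁻¹ * α))
        have l1 : β • z = (-α) • t := by
          rw [neg_smul]
          exact eq_neg_of_add_eq_zero_right h0
        calc z = β⁻¹ • (β • z) := by rw [smul_smul, inv_mul_cancel₀ hβ, one_smul]
          _ = _ := by rw [l1, smul_smul]; congr 1; ring
      rw [hβ, zero_smul, add_zero] at h0
      exact ⟨(smul_eq_zero.1 h0).resolve_right ht, hβ⟩
    have k4 := hcmp x hx z hzW c e hQx hQz hxz (hind x hx0 (by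
      rintro r rfl
      exact hzU (Submodule.mem_sup_left (Submodule.smul_mem _ _ (Submodule.mem_span_singleton_self x))))) hc he
    have k5 := hcmp y hy z hzW d e hQy hQz hyz (hind y hy0 (by
      rintro r rfl
      exact hzU (Submodule.mem_sup_right (Submodule.smul_mem _ _ (Submodule.mem_span_singleton_self y))))) hd' he
    rw [k4, k5]
  -- a hyperbolic pair of `W`
  have hpd := finrank_perp hQ W
  obtain ⟨x, hx, hxP, hQx⟩ := exists_compl_sing (Q := Q) W (perp Q W) (by
    have k1 : finrank F ↥(W ⊓ perp Q W) ≤ finrank F (perp Q W) := Submodule.finrank_mono inf_le_right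
    have k2 := Submodule.finrank_le W
    omega)
  obtain ⟨y0, hy0, hxy0⟩ : ∃ y ∈ W, polar Q x y ≠ 0 := by
    by_contra hc
    push Not at hc
    exact hxP (mem_perp'.2 hc)
  set y1 := (polar Q x y0)⁻¹ • y0 with hy1
  have hy1W : y1 ∈ W := W.smul_mem _ hy0
  have hxy1 : polar Q x y1 = 1 := by
    rw [hy1, polar_smul_right, smul_eq_mul, inv_mul_cancel₀ hxy0]
  clear_value y1
  set y := y1 + (-Q y1) • x with hy
  have hyW : y ∈ W := W.add_mem hy1W (W.smul_mem _ hx)
  have hyp : Hyp Q x y := by
    refine ⟨hQx, ?_, ?_⟩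
    · rw [hy, Q_add, QuadraticMap.map_smul, polar_smul_right, polar_comm Q y1 x, hxy1, hQx]
      simp
    · rw [hy, polar_add_right, polar_smul_right, hxy1, polar_self_of_sing hQx]
      simp
  obtain ⟨l, hl⟩ := heig x hx hQx
  have hsame : ∀ s ∈ W, Q s = 0 → b s = l • s := by
    intro s hs hQs
    by_cases hs0 : s = 0
    · rw [hs0]; simp
    obtain ⟨c, hc⟩ := heig s hs hQs
    rw [hc, hcmp2 s hs x hx c l hQs hQx hs0 hyp.left_ne hc hl]
  have hl1 : l = 1 := by
    have k1 := polar_map hbO x y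
    rw [hl, hsame y hyW hyp.right, polar_smul_left, polar_smul_right, hyp.pair] at k1
    simp only [smul_eq_mul, mul_one] at k1
    have k2 : (l - 1) * (l - 1) = 0 := by linear_combination k1 + (1 - l) * h2
    exact sub_eq_zero.1 (mul_self_eq_zero.1 k2)
  have hWfix : W ≤ H890.SpParity.fix b := by
    intro v hv
    rw [H890.SpParity.mem_fix]
    set v' := LieClassical.OrthTrans.proj Q x y v with hv'
    have e : v = v' + polar Q y v • x + polar Q x v • y := by
      rw [hv', LieClassical.OrthTrans.proj]; module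
    have hv'W : v' ∈ W := by
      rw [hv', LieClassical.OrthTrans.proj]
      exact W.sub_mem (W.sub_mem hv (W.smul_mem _ hx)) (W.smul_mem _ hyW)
    have hxv' : polar Q x v' = 0 := polar_proj_left hyp v
    have hyv' : polar Q y v' = 0 := polar_proj_right hyp v
    have hs := sing_vec hyp hxv' hyv'
    have k1 := hsame _ (W.sub_mem (W.add_mem hx hv'W) (W.smul_mem _ hyW)) hs
    have k2 := hsame x hx hQx
    have k3 := hsame y hyW hyp.right
    rw [hl1, one_smul] at k1 k2 k3
    rw [map_sub, map_add, map_smul, k2, k3] at k1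
    have k4 : b v' = v' := by
      have := add_left_cancel (sub_left_injective k1)
      exact this
    rw [e, map_add, map_add, map_smul, map_smul, k4, k2, k3]
  have k5 := Submodule.finrank_mono hWfix
  have k6 := H890.SpParity.even_E hQ hb
  have k7 := Submodule.finrank_le (H890.SpParity.fix b)
  have k8 : H890.SpParity.fix b = ⊤ := by
    apply Submodule.eq_top_of_finrank_eq
    rw [Nat.even_iff] at hev k6
    omega
  obtain ⟨v, hv⟩ := hns 1
  apply hv
  rw [one_smul, ← H890.SpParity.mem_fix, k8]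
  trivial

theorem TS2_of_P {b : V ≃ₗ[F] V} (hb : b ∈ O Q) {u : V} (hu : Q u = 0) (huu : polar Q u (b u) = 0)
    (hns : ∀ c : F, b u ≠ c • u) : TS2 Q u (b u) := by
  have hu0 : u ≠ 0 := by
    rintro rfl
    exact hns 0 (by simp)
  refine ⟨?_, hu, by rw [mem_O.1 hb, hu], huu⟩
  intro α β h0
  have hβ : β = 0 := by
    by_contra hβ
    apply hns (-(β⁻¹ * α))
    have l1 : β • b u = (-α) • u := by
      rw [neg_smul]
      exact eq_neg_of_add_eq_zero_right h0
    calc b u = β⁻¹ • (β • b u) := by rw [smul_smul, inv_mul_cancel₀ hβ, one_smul]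
      _ = _ := by rw [l1, smul_smul]; congr 1; ring
  rw [hβ, zero_smul, add_zero] at h0
  exact ⟨(smul_eq_zero.1 h0).resolve_right hu0, hβ⟩

/-- an involution fixes a totally singular plane pointwise -/
theorem exists_fixed_TS2 (h2 : (2 : F) = 0) (hd : 8 ≤ finrank F V)
    {b : V ≃ₗ[F] V} (hb : b ∈ O Q) (hsq : ∀ v, b (b v) = v) : ∃ x y, TS2 Q x y ∧ b x = x ∧ b y = y := by
  set K := eg b 1 with hK
  set R := LinearMap.range ((b : V →ₗ[F] V) - (1 : F) • LinearMap.id) with hR
  have hKR : finrank F R + finrank F K = finrank F V := finrank_ker_range b 1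
  have hRK : R ≤ K := by
    rintro _ ⟨v, rfl⟩
    rw [hK, mem_eg]
    have e1 : ((b : V →ₗ[F] V) - (1 : F) • (LinearMap.id : V →ₗ[F] V)) v = b v - (1 : F) • v := rfl
    rw [e1, one_smul, one_smul, map_sub, hsq]
    have e : (v - b v) - (b v - v) = (2 : F) • (v - b v) := by module
    rw [h2, zero_smul, sub_eq_zero] at e
    exact e
  have hperp : ∀ r ∈ R, ∀ k ∈ K, polar Q r k = 0 := by
    rintro _ ⟨v, rfl⟩ k hk
    have e1 : ((b : V →ₗ[F] V) - (1 : F) • (LinearMap.id : V →ₗ[F] V)) v = b v - v := by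
      rw [one_smul]
      rfl
    rw [e1, polar_sub_left]
    rw [hK, mem_eg, one_smul] at hk
    nth_rewrite 1 [← hk]
    rw [polar_map hb, sub_self]
  have hle := Submodule.finrank_mono hRK
  have hfin : ∀ x ∈ K, x ≠ 0 → Q x = 0 → ∀ Y : Submodule F V, Y ≤ K → (∀ y ∈ Y, polar Q x y = 0) →
      4 ≤ finrank F Y → ∃ x y, TS2 Q x y ∧ b x = x ∧ b y = y := by
    intro x hx hx0 hQx Y hYK hY h4
    obtain ⟨y, hy, hyU, hQy⟩ := exists_compl_sing (Q := Q) Y (Submodule.span F {x}) (by
      have l1 : finrank F ↥(Y ⊓ Submodule.span F {x}) ≤ finrank F (Submodule.span F {x}) :=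
        Submodule.finrank_mono inf_le_right
      have l3 := finrank_span_single_le (F := F) x
      omega)
    refine ⟨x, y, ⟨?_, hQx, hQy, hY y hy⟩, ?_, ?_⟩
    · intro α β h0
      have hβ : β = 0 := by
        by_contra hβ
        apply hyU
        have l1 : β • y = (-α) • x := by
          rw [neg_smul]
          exact eq_neg_of_add_eq_zero_right h0
        have l2 : y = (-(β⁻¹ * α)) • x := by
          calc y = β⁻¹ • (β • y) := by rw [smul_smul, inv_mul_cancel₀ hβ, one_smul]
            _ = _ := by rw [l1, smul_smul]; congr 1; ring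
        rw [l2]
        exact Submodule.smul_mem _ _ (Submodule.mem_span_singleton_self x)
      rw [hβ, zero_smul, add_zero] at h0
      exact ⟨(smul_eq_zero.1 h0).resolve_right hx0, hβ⟩
    · have := mem_eg.1 hx
      rwa [one_smul] at this
    · have := mem_eg.1 (hYK hy)
      rwa [one_smul] at this
  by_cases h3 : 3 ≤ finrank F R
  · obtain ⟨x, hx, hx0, hQx⟩ := exists_sing_mem (Q := Q) R h3
    exact hfin x (hRK hx) hx0 hQx K le_rfl (fun y hy => hperp x hx y hy) (by omega)
  · obtain ⟨x, hx, hx0, hQx⟩ := exists_sing_mem (Q := Q) K (by omega)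
    have l1 := finrank_inf_polar (Q := Q) K x
    exact hfin x hx hx0 hQx (K ⊓ LinearMap.ker (polarBilin Q x)) inf_le_left (fun y hy => hy.2) (by omega)

/-- one of `κ_a`, `κ_b` is zero and the other one is not: impossible -/
theorem two_aux (h2 : (2 : F) = 0) (hG : Good Q) (hd : 8 ≤ finrank F V) (hev : Even (finrank F V))
    {a b : V ≃ₗ[F] V} (ha : a ∈ E Q) (hb : b ∈ E Q) (hnsa : ∀ c : F, ∃ v, a v ≠ c • v) (h : AllU Q a b)
    {κ : F} (hκ : ∀ v, a v + a⁻¹ v = κ • v) (hκ0 : κ ≠ 0) (hκb : ∀ v, b v + b⁻¹ v = (0 : F) • v) : False := by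
  have hQ := hG.nondeg
  have hsq : ∀ v, b (b v) = v := by
    intro v
    rw [kappa_apply hκb v, zero_smul, zero_sub]
    have e : -v - v = -((2 : F) • v) := by module
    rw [h2, zero_smul, neg_zero, sub_eq_zero] at e
    exact e
  obtain ⟨u, hu, huu, hup⟩ := exists_P_two h2 hG hd hev ha hnsa hκ
  have hu0 : u ≠ 0 := by
    rintro rfl
    exact hup 0 (by simp)
  obtain ⟨x, y, hxy, hbx, hby⟩ := exists_fixed_TS2 h2 hd (E_le_O hb) hsq
  obtain ⟨g, hg, hgx, hgy⟩ := trans2 hG (by omega) hxy (TS2_of_P (E_le_O ha) hu huu hup)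
  have hgi0 : g⁻¹ u = x := by rw [← hgx]; exact LinearEquiv.symm_apply_apply g x
  have hgi1 : g⁻¹ (a u) = y := by rw [← hgy]; exact LinearEquiv.symm_apply_apply g y
  obtain ⟨δ, hδ, hU⟩ := h g hg
  have hδδ : δ * δ = 1 := by rcases hδ with rfl | rfl <;> ring
  have hz0 : (a * (g * b * g⁻¹)) u = a u := by
    show a (g (b (g⁻¹ u))) = _
    rw [hgi0, hbx, hgx]
  have hz1 : (a * (g * b * g⁻¹)) (a u) = a (a u) := by
    show a (g (b (g⁻¹ (a u)))) = _
    rw [hgi1, hby, hgy]
  have h5 := hU.quad hδδ hu0 (κ := κ) (by rw [hz0, hz1, kappa_apply hκ])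
  apply hκ0
  rw [h5, h2, zero_mul]

/-- **Characteristic two, even dimension.** -/
theorem even_two (h2 : (2 : F) = 0) (hG : Good Q) (hd : 8 ≤ finrank F V) (hev : Even (finrank F V))
    {a b : V ≃ₗ[F] V} (ha : a ∈ E Q) (hb : b ∈ E Q) (hnsa : ∀ c : F, ∃ v, a v ≠ c • v)
    (hnsb : ∀ c : F, ∃ v, b v ≠ c • v) (h : AllU Q a b) : False := by
  have hQ := hG.nondeg
  have haO := E_le_O ha
  have hbO := E_le_O hb
  have hN : (finrank F V : F) = 0 := by
    obtain ⟨m, hm⟩ := hev
    rw [hm, ← two_mul, Nat.cast_mul, Nat.cast_two, h2, zero_mul]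
  have hT : ∀ g ∈ E Q, tr2 a (g * b * g⁻¹) = 0 := by
    intro g hg
    obtain ⟨ε, -, hu⟩ := h g hg
    rw [hu.trace, hN, mul_zero]
  have hZ : Zero12 Q (a : V →ₗ[F] V) (b : V →ₗ[F] V) := fun u v w x y z h1 h3 => const12 hG hd hT h1 h3
  obtain ⟨κb, hκb⟩ := kappa_two hG hbO fun x z hxz =>
    sigma_two h2 hG (by omega) hZ hnsa hxz
  obtain ⟨κa, hκa⟩ := kappa_two hG haO fun x z hxz =>
    sigma_two h2 hG (by omega) hZ.symm hnsb hxz
  by_cases ha0 : κa = 0
  · by_cases hb0 : κb = 0
    · -- two involutions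
      rw [ha0] at hκa
      rw [hb0] at hκb
      obtain ⟨u, hu, huu, hup⟩ := exists_P_two h2 hG hd hev ha hnsa hκa
      obtain ⟨x, hx, hxx, hxp⟩ := exists_P_two h2 hG hd hev hb hnsb hκb
      have hu0 : u ≠ 0 := by
        rintro rfl
        exact hup 0 (by simp)
      have hTu := (TS2_of_P haO hu huu hup).add_right 1
      rw [one_smul] at hTu
      obtain ⟨g, hg, hgx, hgy⟩ := trans2 hG (by omega) (TS2_of_P hbO hx hxx hxp) hTu
      have hgi0 : g⁻¹ u = x := by rw [← hgx]; exact LinearEquiv.symm_apply_apply g x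
      have hgi1 : g⁻¹ (a u) = b x - x := by
        have e : a u = g (b x - x) := by rw [map_sub, hgy, hgx]; abel
        rw [e]
        exact LinearEquiv.symm_apply_apply g _
      obtain ⟨δ, hδ, hU⟩ := h g hg
      have hδδ : δ * δ = 1 := by rcases hδ with rfl | rfl <;> ring
      have ka := kappa_apply hκa u
      have kb := kappa_apply hκb x
      rw [zero_smul, zero_sub] at ka kb
      have hz0 : (a * (g * b * g⁻¹)) u = a u - u := by
        show a (g (b (g⁻¹ u))) = _
        rw [hgi0, hgy, map_add, ka]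
        abel
      have hz1 : (a * (g * b * g⁻¹)) (a u) = u - (2 : F) • a u := by
        show a (g (b (g⁻¹ (a u)))) = _
        rw [hgi1, map_sub, kb, map_sub, map_neg, hgx, hgy, map_sub, map_neg, map_add, ka]
        module
      have h5 := hU.quad hδδ hu0 (κ := 1) (by
        rw [hz0, map_sub, hz0, hz1, h2, zero_smul, sub_zero, one_smul]
        have e : (u - (a u - u)) - (a u - u - u) = (2 : F) • (u + u - a u) := by module
        rw [h2, zero_smul, sub_eq_zero] at e
        exact e)
      rw [h2, zero_mul] at h5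
      exact one_ne_zero h5
    · rw [ha0] at hκa
      exact two_aux h2 hG hd hev hb ha hnsb h.symm hκb hb0 hκa
  · by_cases hb0 : κb = 0
    · rw [hb0] at hκb
      exact two_aux h2 hG hd hev ha hb hnsa h hκa ha0 hκb
    · obtain ⟨u, hu, huu, hup⟩ := exists_P_two h2 hG hd hev ha hnsa hκa
      obtain ⟨x, hx, hxx, hxp⟩ := exists_P_two h2 hG hd hev hb hnsb hκb
      have hu0 : u ≠ 0 := by
        rintro rfl
        exact hup 0 (by simp)
      obtain ⟨g, hg, hgx, hgy⟩ := trans2 hG (by omega) (TS2_of_P hbO hx hxx hxp) (TS2_of_P haO hu huu hup)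
      have hgi0 : g⁻¹ u = x := by rw [← hgx]; exact LinearEquiv.symm_apply_apply g x
      have hgi1 : g⁻¹ (a u) = b x := by rw [← hgy]; exact LinearEquiv.symm_apply_apply g _
      obtain ⟨δ, hδ, hU⟩ := h g hg
      have hδδ : δ * δ = 1 := by rcases hδ with rfl | rfl <;> ring
      have ka := kappa_apply hκa u
      have kb := kappa_apply hκb x
      have hz0 : (a * (g * b * g⁻¹)) u = κa • a u - u := by
        show a (g (b (g⁻¹ u))) = _
        rw [hgi0, hgy, ka]
      have hz1 : (a * (g * b * g⁻¹)) (a u) = κb • (κa • a u - u) - a u := by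
        show a (g (b (g⁻¹ (a u)))) = _
        rw [hgi1, kb, map_sub, map_smul, hgx, hgy, map_sub, map_smul, ka]
      have h5 := hU.quad hδδ hu0 (κ := κa * κb - 2) (by
        rw [hz0, map_sub, map_smul, hz0, hz1]
        module)
      rw [h2, zero_mul, sub_zero] at h5
      exact mul_ne_zero ha0 hb0 h5

end Two

end Cfsg.Agent.H445.AH
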